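import Mathlib
import Cfsg.Prelude.Def_Transfer

/-!
Fixed points, best offenders and Timmesfeld replacement for a group of automorphisms of a finite
elementary abelian group, as needed for the P(G,V)-theorem.

`Γ W` is the group of automorphisms of the additive group `W`; `fix B` is the fixed space of
`B`, and `com g` is `[W, g]`.
-/

set_option autoImplicit false

namespace CfsgLib.LocalEven.PGV

universe v

/-- The automorphism group of the additive group `W`. -/
abbrev Γ (W : Type v) [AddCommGroup W] : Type v := (AddMonoid.End W)ˣ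

variable {W : Type v} [AddCommGroup W]

instance finiteEnd [Finite W] : Finite (AddMonoid.End W) :=
  DFunLike.finite (W →+ W)

theorem smul_eq (g : Γ W) (w : W) : g • w = (g : AddMonoid.End W) w := rfl

theorem ext_smul {g h : Γ W} (H : ∀ w : W, g • w = h • w) : g = h :=
  Units.ext (AddMonoidHom.ext H)

/-- The fixed space of a subgroup. -/
def fix (B : Subgroup (Γ W)) : AddSubgroup W where
  carrier := {w | ∀ b ∈ B, b • w = w}
  add_mem' ha hb b hbB := by rw [smul_add, ha b hbB, hb b hbB]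
  zero_mem' b _ := smul_zero b
  neg_mem' ha b hbB := by rw [smul_neg, ha b hbB]

theorem mem_fix {B : Subgroup (Γ W)} {w : W} : w ∈ fix B ↔ ∀ b ∈ B, b • w = w := Iff.rfl

theorem fix_mono {B C : Subgroup (Γ W)} (h : B ≤ C) : fix C ≤ fix B := fun _ hw b hb => hw b (h hb)

/-- The elements fixing every point of `U`. -/
def fixer (U : AddSubgroup W) : Subgroup (Γ W) where
  carrier := {g | ∀ u ∈ U, g • u = u}
  mul_mem' ha hb u hu := by rw [mul_smul, hb u hu, ha u hu]
  one_mem' u _ := one_smul _ u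
  inv_mem' ha u hu := by rw [inv_smul_eq_iff, ha u hu]

theorem mem_fixer {U : AddSubgroup W} {g : Γ W} : g ∈ fixer U ↔ ∀ u ∈ U, g • u = u := Iff.rfl

theorem le_fix_iff {U : AddSubgroup W} {B : Subgroup (Γ W)} : U ≤ fix B ↔ B ≤ fixer U :=
  ⟨fun h b hb u hu => h hu b hb, fun h u hu b hb => h hb u hu⟩

theorem fix_sup (B C : Subgroup (Γ W)) : fix (B ⊔ C) = fix B ⊓ fix C := by
  refine le_antisymm (le_inf (fix_mono le_sup_left) (fix_mono le_sup_right)) ?_
  rw [le_fix_iff]
  exact sup_le (le_fix_iff.1 inf_le_left) (le_fix_iff.1 inf_le_right)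

/-- The map `w ↦ g • w - w`. -/
def der (g : Γ W) : W →+ W where
  toFun w := g • w - w
  map_zero' := by simp
  map_add' a b := by simp only [smul_add]; abel

/-- `[W, g]`. -/
def com (g : Γ W) : AddSubgroup W := (der g).range

theorem mem_com {g : Γ W} {w : W} : w ∈ com g ↔ ∃ v, g • v - v = w := Iff.rfl

theorem com_mem (g : Γ W) (v : W) : g • v - v ∈ com g := ⟨v, rfl⟩

/-- `[W, g]` is invariant under what commutes with `g`. -/
theorem smul_mem_com {g h : Γ W} (hc : Commute h g) {w : W} (hw : w ∈ com g) : h • w ∈ com g := by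
  obtain ⟨v, rfl⟩ := mem_com.1 hw
  refine mem_com.2 ⟨h • v, ?_⟩
  rw [smul_sub, smul_smul, smul_smul, hc.eq]

theorem com_conj {g h : Γ W} {w : W} (hw : w ∈ com (h * g * h⁻¹)) : h⁻¹ • w ∈ com g := by
  obtain ⟨v, rfl⟩ := mem_com.1 hw
  refine mem_com.2 ⟨h⁻¹ • v, ?_⟩
  rw [smul_sub, smul_smul, smul_smul, mul_assoc h g h⁻¹, inv_mul_cancel_left]

theorem eq_one_of_com {g : Γ W} (h : com g = ⊥) : g = 1 := by
  refine ext_smul fun w => ?_
  have := com_mem g w
  rw [h, AddSubgroup.mem_bot, sub_eq_zero] at this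
  rw [this, one_smul]

theorem smul_nsmul' (g : Γ W) (n : ℕ) (w : W) : g • (n • w) = n • (g • w) :=
  map_nsmul (g : AddMonoid.End W) n w

/-- For an element of order prime to `p` the fixed space meets `[W, x]` trivially. -/
theorem eq_zero_of_fixed_com {p : ℕ} (hp : ∀ w : W, p • w = 0) {x : Γ W} {m : ℕ} (hm : x ^ m = 1)
    (hcop : m.Coprime p) {w : W} (hw : w ∈ com x) (hfix : x • w = w) : w = 0 := by
  obtain ⟨v, rfl⟩ := mem_com.1 hw
  have hpow : ∀ k : ℕ, x ^ k • v = v + k • (x • v - v) := by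
    intro k
    induction k with
    | zero => simp
    | succ k ih =>
      rw [pow_succ', mul_smul, ih, smul_add, smul_nsmul', hfix, succ_nsmul]
      abel
  have h1 := hpow m
  rw [hm, one_smul, left_eq_add] at h1
  have h2 : addOrderOf (x • v - v) ∣ m := addOrderOf_dvd_of_nsmul_eq_zero h1
  have h3 : addOrderOf (x • v - v) ∣ p := addOrderOf_dvd_of_nsmul_eq_zero (hp _)
  exact AddMonoid.addOrderOf_eq_one_iff.1 (Nat.eq_one_of_dvd_coprimes hcop h2 h3)

/-- In characteristic `p` an element of order dividing `p` is unipotent. -/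
theorem sub_one_pow {p : ℕ} (hpp : p.Prime) (hp : ∀ w : W, p • w = 0) {a : Γ W} (ha : a ^ p = 1) :
    ((a : AddMonoid.End W) - 1) ^ p = 0 := by
  have hpz : (p : AddMonoid.End W) = 0 := AddMonoidHom.ext fun w =>
    (AddMonoid.End.natCast_apply p w).trans (hp w)
  obtain ⟨r, hr⟩ := Commute.exists_add_pow_prime_eq (R := AddMonoid.End W) hpp
    (x := (a : AddMonoid.End W) - 1) (y := 1) (Commute.one_right _)
  rw [sub_add_cancel, ← Units.val_pow_eq_pow_val, ha, Units.val_one, one_pow, hpz] at hr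
  simpa using hr.symm

/-- `(a - 1) ^ k` applied to `u`. -/
def ev (a : Γ W) (k : ℕ) : W → W := ⇑(((a : AddMonoid.End W) - 1) ^ k : AddMonoid.End W)

/-- A nonzero subgroup invariant under an elementary abelian `p`-group contains a nonzero fixed
point. -/
theorem exists_fixed {p : ℕ} [hpp : Fact p.Prime] [Finite W] (hp : ∀ w : W, p • w = 0)
    (A : Subgroup (Γ W)) (hA : Cfsg.IsElementaryAbelian p A) (U : AddSubgroup W) (hU : U ≠ ⊥)
    (hinv : ∀ a ∈ A, ∀ u ∈ U, a • u ∈ U) : ∃ u ∈ U, u ≠ 0 ∧ u ∈ fix A := by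
  classical
  haveI := Fintype.ofFinite (Γ W)
  suffices key : ∀ s : Finset (Γ W), (∀ a ∈ s, a ∈ A) → ∃ u ∈ U, u ≠ 0 ∧ ∀ a ∈ s, a • u = u by
    obtain ⟨u, hu, hu0, huA⟩ := key (Finset.univ.filter (· ∈ A)) (fun a ha => by simpa using ha)
    exact ⟨u, hu, hu0, fun a ha => huA a (by simpa using ha)⟩
  intro s
  induction s using Finset.induction with
  | empty =>
    intro _
    obtain ⟨⟨u, hu⟩, hu0⟩ : ∃ u : U, u ≠ 0 := by
      haveI := (AddSubgroup.nontrivial_iff_ne_bot U).2 hU
      exact exists_ne 0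
    exact ⟨u, hu, fun h => hu0 (Subtype.ext h), by simp⟩
  | insert a s has ih =>
    intro hs
    obtain ⟨u, hu, hu0, hus⟩ := ih fun b hb => hs b (Finset.mem_insert_of_mem hb)
    have haA := hs a (Finset.mem_insert_self a s)
    have hk : ∀ k : ℕ, ev a k u ∈ U ∧
        ∀ b ∈ s, b • (ev a k u) = ev a k u := by
      intro k
      induction k with
      | zero => exact ⟨hu, hus⟩
      | succ k ihk =>
        have e : ev a (k + 1) u =
            a • (ev a k u) - ev a k u := by
          rw [ev, pow_succ']; rfl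
        rw [e]
        refine ⟨U.sub_mem (hinv a haA _ ihk.1) ihk.1, fun b hb => ?_⟩
        have hc : b * a = a * b :=
          congrArg Subtype.val (hA.1.is_comm.comm ⟨b, hs b (Finset.mem_insert_of_mem hb)⟩ ⟨a, haA⟩)
        rw [smul_sub, smul_smul, hc, ← smul_smul, ihk.2 b hb]
    have hex : ∃ k, ev a k u = 0 :=
      ⟨p, by rw [ev, sub_one_pow hpp.out hp (hA.2 a haA)]; rfl⟩
    have hpos : 0 < Nat.find hex := by
      by_contra h0
      have := Nat.find_spec hex
      rw [show Nat.find hex = 0 by omega, ev, pow_zero] at this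
      exact hu0 this
    refine ⟨ev a (Nat.find hex - 1) u, (hk _).1,
      Nat.find_min hex (by omega), fun b hb => ?_⟩
    rcases Finset.mem_insert.1 hb with rfl | hb
    · have hz := Nat.find_spec hex
      rw [show Nat.find hex = (Nat.find hex - 1) + 1 by omega, ev, pow_succ'] at hz
      exact sub_eq_zero.1 hz
    · exact (hk _).2 b hb

/-- A best offender: `|B| |C_W(B)|` is maximal at `A` among the subgroups of `A`. -/
def Best (A : Subgroup (Γ W)) : Prop :=
  ∀ B ≤ A, Nat.card B * Nat.card (fix B) ≤ Nat.card A * Nat.card (fix A)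

theorem addCard_mul (H K : AddSubgroup W) :
    Nat.card H * Nat.card K = Nat.card ↥(H ⊔ K) * Nat.card ↥(H ⊓ K) := by
  have h1 : (H ⊓ K).relIndex H * Nat.card ↥(H ⊓ K) = Nat.card H := by
    rw [mul_comm, ← Nat.card_congr (AddSubgroup.addSubgroupOfEquivOfLe (inf_le_left : H ⊓ K ≤ H)).toEquiv]
    exact AddSubgroup.card_mul_index _
  have h2 : K.relIndex (H ⊔ K) * Nat.card K = Nat.card ↥(H ⊔ K) := by
    rw [mul_comm, ← Nat.card_congr (AddSubgroup.addSubgroupOfEquivOfLe (le_sup_right : K ≤ H ⊔ K)).toEquiv]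
    exact AddSubgroup.card_mul_index _
  rw [AddSubgroup.inf_relIndex_left] at h1
  rw [AddSubgroup.relIndex_sup_right] at h2
  rw [← h1, ← h2]; ring

theorem card_mul_commute [Finite W] {B C : Subgroup (Γ W)}
    (hc : ∀ b ∈ B, ∀ c ∈ C, Commute b c) :
    Nat.card B * Nat.card C = Nat.card ↥(B ⊔ C) * Nat.card ↥(B ⊓ C) := by
  have hn : B ≤ Subgroup.normalizer (C : Set (Γ W)) := fun b hb =>
    Subgroup.centralizer_le_normalizer _ (Subgroup.mem_centralizer_iff.2 fun c h => ((hc b hb c h).eq).symm)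
  have h1 : (B ⊓ C).relIndex B * Nat.card ↥(B ⊓ C) = Nat.card B := by
    rw [mul_comm, ← Nat.card_congr (Subgroup.subgroupOfEquivOfLe (inf_le_left : B ⊓ C ≤ B)).toEquiv]
    exact Subgroup.card_mul_index _
  have h2 : C.relIndex (B ⊔ C) * Nat.card C = Nat.card ↥(B ⊔ C) := by
    rw [mul_comm, ← Nat.card_congr (Subgroup.subgroupOfEquivOfLe (le_sup_right : C ≤ B ⊔ C)).toEquiv]
    exact Subgroup.card_mul_index _
  rw [Subgroup.inf_relIndex_left] at h1
  have h3 : C.relIndex (B ⊔ C) = C.relIndex B := by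
    haveI : (C.subgroupOf (B ⊔ C)).Normal :=
      Subgroup.normal_subgroupOf_of_le_normalizer (sup_le hn Subgroup.le_normalizer)
    haveI : (C.subgroupOf B).Normal := Subgroup.normal_subgroupOf_of_le_normalizer hn
    have e := QuotientGroup.quotientInfEquivProdNormalizerQuotient B C hn
    exact (Nat.card_congr e.toEquiv).symm
  rw [h3] at h2
  rw [← h1, ← h2]; ring

variable {p : ℕ} {A : Subgroup (Γ W)}

theorem commute_of_mem (hA : Cfsg.IsElementaryAbelian p A) {a b : Γ W} (ha : a ∈ A) (hb : b ∈ A) :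
    Commute a b :=
  congrArg Subtype.val (hA.1.is_comm.comm ⟨a, ha⟩ ⟨b, hb⟩)

theorem el_mono (hA : Cfsg.IsElementaryAbelian p A) {B : Subgroup (Γ W)} (hB : B ≤ A) :
    Cfsg.IsElementaryAbelian p B :=
  ⟨⟨⟨fun x y => Subtype.ext (commute_of_mem hA (hB x.2) (hB y.2)).eq⟩⟩, fun b hb => hA.2 b (hB hb)⟩

/-- Subgroups attaining the maximum, with fixed space inside `I`, are closed under intersection. -/
theorem inter_max [Finite W] (hA : Cfsg.IsElementaryAbelian p A) (hbest : Best A)
    {B C : Subgroup (Γ W)} (hB : B ≤ A) (hC : C ≤ A)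
    (eB : Nat.card B * Nat.card (fix B) = Nat.card A * Nat.card (fix A))
    (eC : Nat.card C * Nat.card (fix C) = Nat.card A * Nat.card (fix A)) :
    Nat.card ↥(B ⊓ C) * Nat.card (fix (B ⊓ C)) = Nat.card A * Nat.card (fix A) ∧
      fix (B ⊓ C) = fix B ⊔ fix C := by
  set μ := Nat.card A * Nat.card (fix A) with hμ
  have hμ0 : 0 < μ := Nat.mul_pos Nat.card_pos Nat.card_pos
  have h1 := hbest _ (sup_le hB hC)
  have h2 := hbest _ (inf_le_left.trans hB : B ⊓ C ≤ A)
  have e : μ * μ = (Nat.card ↥(B ⊔ C) * Nat.card (fix (B ⊔ C))) *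
      (Nat.card ↥(B ⊓ C) * Nat.card ↥(fix B ⊔ fix C)) := by
    have c1 := card_mul_commute (B := B) (C := C) fun b hb c hc => commute_of_mem hA (hB hb) (hC hc)
    have c2 := addCard_mul (fix B) (fix C)
    rw [← fix_sup] at c2
    calc μ * μ = (Nat.card B * Nat.card (fix B)) * (Nat.card C * Nat.card (fix C)) := by rw [eB, eC]
      _ = (Nat.card B * Nat.card C) * (Nat.card (fix B) * Nat.card (fix C)) := by ring
      _ = _ := by rw [c1, c2]; ring
  have hle : fix B ⊔ fix C ≤ fix (B ⊓ C) := sup_le (fix_mono inf_le_left) (fix_mono inf_le_right)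
  have h3 : Nat.card ↥(B ⊓ C) * Nat.card ↥(fix B ⊔ fix C) ≤
      Nat.card ↥(B ⊓ C) * Nat.card (fix (B ⊓ C)) :=
    Nat.mul_le_mul_left _ (AddSubgroup.card_le_of_le hle)
  have h4 : μ * μ ≤ μ * (Nat.card ↥(B ⊓ C) * Nat.card ↥(fix B ⊔ fix C)) :=
    e.le.trans (Nat.mul_le_mul_right _ h1)
  have h5 := Nat.le_of_mul_le_mul_left h4 hμ0
  refine ⟨le_antisymm h2 (h5.trans h3), (AddSubgroup.eq_of_le_of_card_ge hle ?_).symm⟩
  exact Nat.le_of_mul_le_mul_left ((h2.trans h5)) Nat.card_pos

/-- `[W, A]`. -/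
def comA (A : Subgroup (Γ W)) : AddSubgroup W := ⨆ a ∈ A, com a

/-- `C_A([W, A])`. -/
def quad (A : Subgroup (Γ W)) : Subgroup (Γ W) := A ⊓ fixer (comA A)

theorem quad_le (A : Subgroup (Γ W)) : quad A ≤ A := inf_le_left

theorem quad_fixes {a b w} (hb : b ∈ quad A) (ha : a ∈ A) (hw : w ∈ com a) :
    b • w = (w : W) :=
  hb.2 w (AddSubgroup.mem_iSup_of_mem a (AddSubgroup.mem_iSup_of_mem ha hw))

/-- Timmesfeld replacement: `C_A([W, A])` attains the maximum and is nontrivial. -/
theorem quad_spec [Fact p.Prime] [Finite W] (hp : ∀ w : W, p • w = 0)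
    (hA : Cfsg.IsElementaryAbelian p A) (hbest : Best A) (hA1 : A ≠ ⊥) :
    Nat.card (quad A) * Nat.card (fix (quad A)) = Nat.card A * Nat.card (fix A) ∧
      fix (quad A) ≤ comA A ⊔ fix A ∧ quad A ≠ ⊥ := by
  classical
  haveI := Fintype.ofFinite W
  let Bv : W → Subgroup (Γ W) := fun v =>
    { carrier := {b | b ∈ A ∧ b • v - v ∈ fix A}
      mul_mem' := fun {b c} hb hc => ⟨A.mul_mem hb.1 hc.1, by
        have e : (b * c) • v - v = b • (c • v - v) + (b • v - v) := by
          rw [mul_smul, smul_sub]; abel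
        rw [e, hc.2 b hb.1]
        exact add_mem hc.2 hb.2⟩
      one_mem' := ⟨A.one_mem, by simp⟩
      inv_mem' := fun {b} hb => ⟨A.inv_mem hb.1, by
        have e : b⁻¹ • v - v = -(b⁻¹ • (b • v - v)) := by
          rw [smul_sub, inv_smul_smul]; abel
        rw [e, hb.2 _ (A.inv_mem hb.1)]
        exact neg_mem hb.2⟩ }
  have hswap : ∀ v : W, ∀ a ∈ A, ∀ b ∈ A,
      b • (a • v - v) = a • v - v ↔ a • (b • v - v) = b • v - v := by
    intro v a ha b hb
    rw [smul_sub, smul_sub, smul_smul, smul_smul, (commute_of_mem hA hb ha).eq,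
      sub_eq_sub_iff_add_eq_add, sub_eq_sub_iff_add_eq_add, add_comm (b • v) (a • v)]
  have hBv : ∀ v b, b ∈ Bv v ↔ b ∈ A ∧ ∀ a ∈ A, b • (a • v - v) = a • v - v := fun v b =>
    ⟨fun h => ⟨h.1, fun a ha => (hswap v a ha b h.1).2 (h.2 a ha)⟩,
      fun h => ⟨h.1, fun a ha => (hswap v a ha b h.1).1 (h.2 a ha)⟩⟩
  have hstep : ∀ v, Nat.card (Bv v) * Nat.card (fix (Bv v)) = Nat.card A * Nat.card (fix A) ∧
      fix (Bv v) ≤ comA A ⊔ fix A := by
    intro v
    set I := comA A ⊔ fix A
    set M := fix (Bv v) ⊓ I with hM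
    have hle : Bv v ≤ A := fun b hb => hb.1
    have hFM : fix A ≤ M := le_inf (fix_mono hle) le_sup_right
    have hdM : ∀ a ∈ A, a • v - v ∈ M := fun a ha =>
      ⟨fun b hb => ((hBv v b).1 hb).2 a ha,
        AddSubgroup.mem_sup_left (AddSubgroup.mem_iSup_of_mem a (AddSubgroup.mem_iSup_of_mem ha (com_mem a v)))⟩
    have hrel : ∀ a b : A, (-((a : Γ W) • v - v) + ((b : Γ W) • v - v) ∈ fix A ↔
        ((a⁻¹ * b : A) : Γ W) ∈ Bv v) := by
      intro a b
      have e : -((a : Γ W) • v - v) + ((b : Γ W) • v - v) =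
          (a : Γ W) • ((((a⁻¹ * b : A) : Γ W)) • v - v) := by
        rw [Subgroup.coe_mul, Subgroup.coe_inv, smul_sub, ← mul_smul, mul_inv_cancel_left]; abel
      constructor
      · intro h
        refine ⟨(a⁻¹ * b : A).2, fun c hc => ?_⟩
        rw [e] at h
        have h' := h _ (A.inv_mem a.2)
        rw [inv_smul_smul] at h'
        rw [h']
        exact h c hc
      · intro h
        rw [e, h.2 _ a.2]
        exact h.2
    let ψ : A ⧸ (Bv v).subgroupOf A → M ⧸ (fix A).addSubgroupOf M := Quotient.lift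
      (fun a : A => ((⟨(a : Γ W) • v - v, hdM a a.2⟩ : M) : M ⧸ (fix A).addSubgroupOf M))
        fun a b hab => by
          rw [QuotientAddGroup.eq, AddSubgroup.mem_addSubgroupOf]
          simp only [AddSubgroup.coe_add, AddSubgroup.coe_neg]
          exact (hrel a b).2 (Subgroup.mem_subgroupOf.1 (QuotientGroup.leftRel_apply.1 hab))
    have hψ : Function.Injective ψ := by
      intro q r hqr
      induction q using Quotient.inductionOn with
      | _ a =>
      induction r using Quotient.inductionOn with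
      | _ b =>
      change ((⟨(a : Γ W) • v - v, hdM a a.2⟩ : M) : M ⧸ (fix A).addSubgroupOf M) =
        ((⟨(b : Γ W) • v - v, hdM b b.2⟩ : M) : M ⧸ (fix A).addSubgroupOf M) at hqr
      rw [QuotientAddGroup.eq, AddSubgroup.mem_addSubgroupOf] at hqr
      simp only [AddSubgroup.coe_add, AddSubgroup.coe_neg] at hqr
      exact QuotientGroup.eq.2 (Subgroup.mem_subgroupOf.2 ((hrel a b).1 hqr))
    have hcard := Nat.card_le_card_of_injective ψ hψ
    have e1 : Nat.card A = Nat.card (A ⧸ (Bv v).subgroupOf A) * Nat.card (Bv v) := by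
      rw [← Nat.card_congr (Subgroup.subgroupOfEquivOfLe hle).toEquiv]
      exact Subgroup.card_eq_card_quotient_mul_card_subgroup _
    have e2 : Nat.card M = Nat.card (M ⧸ (fix A).addSubgroupOf M) * Nat.card (fix A) := by
      rw [← Nat.card_congr (AddSubgroup.addSubgroupOfEquivOfLe hFM).toEquiv]
      exact AddSubgroup.card_eq_card_quotient_mul_card_addSubgroup _
    have h1 : Nat.card A * Nat.card (fix A) ≤ Nat.card (Bv v) * Nat.card M := by
      rw [e1, e2]
      calc Nat.card (↥A ⧸ (Bv v).subgroupOf A) * Nat.card ↥(Bv v) * Nat.card ↥(fix A)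
          = Nat.card ↥(Bv v) * (Nat.card (↥A ⧸ (Bv v).subgroupOf A) * Nat.card ↥(fix A)) := by ring
        _ ≤ _ := Nat.mul_le_mul_left _ (Nat.mul_le_mul_right _ hcard)
    have h2 : Nat.card (Bv v) * Nat.card M ≤ Nat.card (Bv v) * Nat.card (fix (Bv v)) :=
      Nat.mul_le_mul_left _ (AddSubgroup.card_le_of_le inf_le_left)
    have h3 := hbest (Bv v) hle
    refine ⟨le_antisymm h3 (h1.trans h2), ?_⟩
    have hMeq : M = fix (Bv v) := AddSubgroup.eq_of_le_of_card_ge inf_le_left
      (Nat.le_of_mul_le_mul_left (h3.trans h1) Nat.card_pos)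
    rw [← hMeq]
    exact inf_le_right
  let X : Finset W → Subgroup (Γ W) := fun s => A ⊓ ⨅ v ∈ s, Bv v
  have hX : ∀ s, Nat.card (X s) * Nat.card (fix (X s)) = Nat.card A * Nat.card (fix A) ∧
      fix (X s) ≤ comA A ⊔ fix A := by
    intro s
    induction s using Finset.induction with
    | empty =>
      have : X ∅ = A := by simp [X]
      rw [this]
      exact ⟨rfl, le_sup_right⟩
    | insert v s hvs ih =>
      have hX' : X (insert v s) = X s ⊓ Bv v := by
        simp only [X, Finset.iInf_insert]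
        ac_rfl
      obtain ⟨h1, h2⟩ := inter_max hA hbest (inf_le_left : X s ≤ A) (fun b hb => hb.1 : Bv v ≤ A) ih.1 (hstep v).1
      rw [hX']
      exact ⟨h1, h2 ▸ sup_le ih.2 (hstep v).2⟩
  have hq : X Finset.univ = quad A := by
    ext b
    simp only [X, Subgroup.mem_inf, Subgroup.mem_iInf, quad]
    constructor
    · rintro ⟨hb, h⟩
      refine ⟨hb, ?_⟩
      have : comA A ≤ fix (Subgroup.zpowers b) := by
        refine iSup₂_le fun a ha => ?_
        rintro _ ⟨v, rfl⟩
        intro c hc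
        exact (show c ∈ fixer (AddSubgroup.closure {a • v - v}) from Subgroup.zpowers_le.2 (fun u hu => by
          induction hu using AddSubgroup.closure_induction with
          | mem u hu => rw [Set.mem_singleton_iff] at hu; rw [hu]; exact ((hBv v b).1 (h v (Finset.mem_univ v))).2 a ha
          | zero => exact smul_zero b
          | add x y _ _ hx hy => rw [smul_add, hx, hy]
          | neg x _ hx => rw [smul_neg, hx]) hc) _ (AddSubgroup.subset_closure rfl)
      exact le_fix_iff.1 this (Subgroup.mem_zpowers b)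
    · rintro ⟨hb, h⟩
      exact ⟨hb, fun v _ => (hBv v b).2 ⟨hb, fun a ha => quad_fixes ⟨hb, h⟩ ha (com_mem a v)⟩⟩
  obtain ⟨h1, h2⟩ := hX Finset.univ
  rw [hq] at h1 h2
  refine ⟨h1, h2, fun hbot => ?_⟩
  rw [hbot] at h2
  -- `[W, A] = W` modulo fixed points contradicts unipotence
  haveI := Fintype.ofFinite (Γ W)
  set U := comA A with hU
  have hUle : ∀ s : Finset (Γ W), (∀ a ∈ s, a ∈ A) → U ≤ (⨆ a ∈ s, U.map (der a)) → U = ⊥ := by
    intro s
    induction s using Finset.induction with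
    | empty => intro _ h; simpa using h
    | insert a s has ih =>
      intro hs h
      refine ih (fun b hb => hs b (Finset.mem_insert_of_mem hb)) ?_
      set X' := ⨆ b ∈ s, U.map (der b)
      rw [Finset.iSup_insert] at h
      have hX'inv : X'.map (der a) ≤ X' := by
        rw [AddSubgroup.map_iSup]
        refine iSup_le fun b => ?_
        rw [AddSubgroup.map_iSup]
        refine iSup_le fun hb => le_trans ?_ (le_biSup (fun b => U.map (der b)) hb)
        rw [AddSubgroup.map_map]
        rintro _ ⟨u, hu, rfl⟩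
        refine ⟨der a u, ?_, ?_⟩
        · refine U.sub_mem ?_ hu
          have hinvU : U ≤ U.comap (DistribMulAction.toAddMonoidHom W a) := by
            refine iSup₂_le fun c hc => ?_
            intro x hx
            exact AddSubgroup.mem_iSup_of_mem c (AddSubgroup.mem_iSup_of_mem hc
              (smul_mem_com (commute_of_mem hA (hs a (Finset.mem_insert_self a s)) hc) hx))
          exact hinvU hu
        · have hcm := commute_of_mem hA (hs a (Finset.mem_insert_self a s))
            (hs b (Finset.mem_insert_of_mem hb))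
          show b • (a • u - u) - (a • u - u) = a • (b • u - u) - (b • u - u)
          rw [smul_sub, smul_sub, smul_smul, smul_smul, hcm.eq]; abel
      have hiter : ∀ k : ℕ, U ≤ U.map (((a : AddMonoid.End W) - 1) ^ k : AddMonoid.End W) ⊔ X' := by
        intro k
        induction k with
        | zero => exact le_sup_of_le_left (fun u hu => ⟨u, hu, rfl⟩)
        | succ k ihk =>
          refine h.trans (sup_le ((AddSubgroup.map_mono ihk).trans ?_) le_sup_right)
          rw [AddSubgroup.map_sup]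
          refine sup_le_sup ?_ hX'inv
          rintro _ ⟨_, ⟨u, hu, rfl⟩, rfl⟩
          exact ⟨u, hu, by rw [pow_succ']; rfl⟩
      have := hiter p
      rw [sub_one_pow Fact.out hp (hA.2 a (hs a (Finset.mem_insert_self a s)))] at this
      refine this.trans (sup_le ?_ le_rfl)
      rintro _ ⟨u, -, rfl⟩
      exact zero_mem _
  have hU0 : U = ⊥ := by
    refine hUle (Finset.univ.filter (· ∈ A)) (fun a ha => by simpa using ha) ?_
    refine iSup₂_le fun a ha => ?_
    rintro _ ⟨w, rfl⟩
    have hw : w ∈ U ⊔ fix A := h2 (fun b hb => by rw [Subgroup.mem_bot.1 hb, one_smul])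
    obtain ⟨u, hu, f, hf, rfl⟩ := AddSubgroup.mem_sup.1 hw
    rw [map_add, show der a f = 0 from sub_eq_zero.2 (hf a ha), add_zero]
    exact AddSubgroup.mem_iSup_of_mem a (AddSubgroup.mem_iSup_of_mem (by simpa using ha) ⟨u, hu, rfl⟩)
  refine hA1 ((Subgroup.eq_bot_iff_forall _).2 fun a ha => eq_one_of_com (eq_bot_iff.2 ?_))
  rw [← hU0]
  exact le_biSup (fun b => com b) ha

end CfsgLib.LocalEven.PGV
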