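import Mathlib
import Cfsg.Agent.Lib.LocalEven.PGV.Basic
import Cfsg.Agent.Lib.Characters.Burnside

/-!
The configuration of the P(G,V)-theorem: an elementary abelian `p`-group `A` and a perfect group
`K` of automorphisms all of whose proper normal subgroups are central, with the `A`-conjugates
of `K` commuting pairwise.
-/

set_option autoImplicit false

namespace CfsgLib.LocalEven.PGV

open scoped commutatorElement

universe v

variable {W : Type v} [AddCommGroup W] {p : ℕ} {A K : Subgroup (Γ W)}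

/-- The conjugate subgroup. -/
def cj (c : Γ W) (K : Subgroup (Γ W)) : Subgroup (Γ W) := K.map (MulAut.conj c).toMonoidHom

theorem mem_cj {c x : Γ W} : x ∈ cj c K ↔ c⁻¹ * x * c ∈ K := by
  constructor
  · rintro ⟨k, hk, rfl⟩
    simpa [mul_assoc] using hk
  · intro h
    exact ⟨c⁻¹ * x * c, h, by simp [mul_assoc]⟩

theorem conj_mem_cj {c k : Γ W} (hk : k ∈ K) : c * k * c⁻¹ ∈ cj c K := ⟨k, hk, rfl⟩

theorem cj_one : cj 1 K = K := by ext x; simp [mem_cj]

theorem cj_mul (c d : Γ W) : cj (c * d) K = cj c (cj d K) := by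
  ext x; simp [mem_cj, mul_assoc]

/-- The hypotheses on `A` and `K`. -/
structure Setup (p : ℕ) (A K : Subgroup (Γ W)) : Prop where
  el : Cfsg.IsElementaryAbelian p A
  perfect : ⁅K, K⁆ = K
  ne : K ≠ ⊥
  normals : ∀ N ≤ K, (∀ k ∈ K, ∀ n ∈ N, k * n * k⁻¹ ∈ N) → N = K ∨
    N ≤ Subgroup.centralizer (K : Set (Γ W))
  comm : ∀ a ∈ A, cj a K ≠ K → ∀ x ∈ K, ∀ y ∈ cj a K, Commute x y

theorem Setup.not_abelian (h : Setup p A K) : ¬ K ≤ Subgroup.centralizer (K : Set (Γ W)) := by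
  intro hab
  apply h.ne
  rw [← h.perfect, eq_bot_iff, Subgroup.commutator_le]
  intro a ha b hb
  rw [Subgroup.mem_bot, commutatorElement_eq_one_iff_mul_comm]
  exact (Subgroup.mem_centralizer_iff.1 (hab ha) b hb).symm

theorem Setup.normals_eq (h : Setup p A K) {N : Subgroup (Γ W)}
    (hN : ∀ k ∈ K, ∀ n ∈ N, n ∈ K → k * n * k⁻¹ ∈ N) {x : Γ W} (hx : x ∈ K) (hxN : x ∈ N)
    (hxc : x ∉ Subgroup.centralizer (K : Set (Γ W))) : K ≤ N := by
  rcases h.normals (N ⊓ K) inf_le_right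
      (fun k hk n hn => ⟨hN k hk n hn.1 hn.2, K.mul_mem (K.mul_mem hk hn.2) (K.inv_mem hk)⟩) with e | e
  · exact e ▸ inf_le_left
  · exact absurd (e ⟨hxN, hx⟩) hxc

/-- If all `k⁻¹ g k g⁻¹` are central in the perfect group `K`, then `g` centralises `K`. -/
theorem Setup.centralizes_of_central (h : Setup p A K) {g : Γ W}
    (hc : ∀ k ∈ K, k⁻¹ * (g * k * g⁻¹) ∈ K ⊓ Subgroup.centralizer (K : Set (Γ W))) :
    ∀ k ∈ K, g * k = k * g := by
  have key : ⁅K, K⁆ ≤ Subgroup.centralizer ({g} : Set (Γ W)) := by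
    rw [Subgroup.commutator_le]
    intro a ha b hb
    rw [Subgroup.mem_centralizer_singleton_iff]
    obtain ⟨za, hza, ea⟩ : ∃ z ∈ K ⊓ Subgroup.centralizer (K : Set (Γ W)), g * a * g⁻¹ = a * z :=
      ⟨_, hc a ha, by group⟩
    obtain ⟨zb, hzb, eb⟩ : ∃ z ∈ K ⊓ Subgroup.centralizer (K : Set (Γ W)), g * b * g⁻¹ = b * z :=
      ⟨_, hc b hb, by group⟩
    have hz : ∀ z ∈ K ⊓ Subgroup.centralizer (K : Set (Γ W)), ∀ y ∈ K, Commute z y :=
      fun z hz y hy => (Subgroup.mem_centralizer_iff.1 hz.2 y hy).symm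
    have e : g * ⁅a, b⁆ * g⁻¹ = ⁅a, b⁆ := by
      have e1 : g * ⁅a, b⁆ * g⁻¹ =
          (g * a * g⁻¹) * (g * b * g⁻¹) * (g * a * g⁻¹)⁻¹ * (g * b * g⁻¹)⁻¹ := by
        rw [commutatorElement_def]; group
      have c1 : za * (b * zb) = (b * zb) * za := (hz za hza _ (K.mul_mem hb hzb.1)).eq
      have c2 : zb * a⁻¹ = a⁻¹ * zb := (hz zb hzb _ (K.inv_mem ha)).eq
      rw [e1, ea, eb, commutatorElement_def, mul_inv_rev, mul_inv_rev]
      calc a * za * (b * zb) * (za⁻¹ * a⁻¹) * (zb⁻¹ * b⁻¹)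
          = a * ((b * zb) * za) * (za⁻¹ * a⁻¹) * (zb⁻¹ * b⁻¹) := by rw [mul_assoc a za, c1]
        _ = a * b * (zb * a⁻¹) * (zb⁻¹ * b⁻¹) := by group
        _ = a * b * a⁻¹ * b⁻¹ := by rw [c2]; group
    calc ⁅a, b⁆ * g = g * ⁅a, b⁆ * g⁻¹ * g := by rw [e]
      _ = g * ⁅a, b⁆ := by group
  intro k hk
  rw [← h.perfect] at hk
  exact ((Subgroup.mem_centralizer_singleton_iff).1 (key hk)).symm

/-- A noncentral element of order prime to `p`, and one of order prime to 6. -/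
theorem Setup.exists_noncentral [Finite W] (h : Setup p A K) {r s : ℕ} (hr : r.Prime) (hs : s.Prime) :
    ∃ x ∈ K, x ∉ Subgroup.centralizer (K : Set (Γ W)) ∧ (orderOf x).Coprime r ∧
      (orderOf x).Coprime s := by
  by_contra hno
  push Not at hno
  haveI : (Subgroup.center K).Normal := inferInstance
  have hsupp : ∀ q : ℕ, q.Prime → q ∣ Nat.card (K ⧸ Subgroup.center K) → q = r ∨ q = s := by
    intro q hq hdiv
    by_contra hne
    push Not at hne
    haveI := Fact.mk hq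
    obtain ⟨Q, hQ⟩ := exists_prime_orderOf_dvd_card' q hdiv
    obtain ⟨k, rfl⟩ := QuotientGroup.mk'_surjective (Subgroup.center K) Q
    set n := orderOf k with hn
    obtain ⟨v, m, hm, hnm⟩ := Nat.exists_eq_pow_mul_and_not_dvd (orderOf_pos k).ne' q hq.ne_one
    have hy : orderOf ((k ^ m : K) : Γ W) = q ^ v := by
      have hm0 : m ≠ 0 := by rintro rfl; exact hm (dvd_zero q)
      rw [Subgroup.orderOf_coe, orderOf_pow, hnm, Nat.gcd_eq_right (dvd_mul_left m _),
        Nat.mul_div_cancel _ (Nat.pos_of_ne_zero hm0)]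
    have hcen : ((k ^ m : K) : Γ W) ∈ Subgroup.centralizer (K : Set (Γ W)) := by
      by_contra hc
      refine hno _ (k ^ m).2 hc ?_ ?_
      · rw [hy]; exact ((Nat.coprime_primes hq hr).2 hne.1).pow_left v
      · rw [hy]; exact ((Nat.coprime_primes hq hs).2 hne.2).pow_left v
    have h1 : (QuotientGroup.mk' (Subgroup.center K) k) ^ m = 1 := by
      rw [← map_pow]
      refine (QuotientGroup.eq_one_iff _).2 (Subgroup.mem_center_iff.2 fun y => Subtype.ext ?_)
      exact Subgroup.mem_centralizer_iff.1 hcen y y.2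
    have h2 := orderOf_dvd_of_pow_eq_one h1
    rw [hQ] at h2
    exact hm h2
  have hcard : ∃ a b, Nat.card (K ⧸ Subgroup.center K) = r ^ a * s ^ b := by
    set N := Nat.card (K ⧸ Subgroup.center K) with hN
    have hN0 : N ≠ 0 := Nat.card_pos.ne'
    obtain ⟨a, m, hm, e⟩ := Nat.exists_eq_pow_mul_and_not_dvd hN0 r hr.ne_one
    have hm0 : m ≠ 0 := by rintro rfl; exact hm (dvd_zero r)
    obtain ⟨b, l, hl, e'⟩ := Nat.exists_eq_pow_mul_and_not_dvd hm0 s hs.ne_one
    have hl1 : l = 1 := by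
      by_contra hl1
      obtain ⟨q, hq, hql⟩ := Nat.exists_prime_and_dvd hl1
      rcases hsupp q hq (by rw [e, e']; exact (hql.mul_left _).mul_left _) with rfl | rfl
      · exact hm (by rw [e']; exact hql.mul_left _)
      · exact hl hql
    exact ⟨a, b, by rw [e, e', hl1, mul_one]⟩
  obtain ⟨a, b, hab⟩ := hcard
  haveI := CfsgLib.Burnside.isSolvable_of_card_eq hr hs a b hab
  have hperf : commutator K = ⊤ := by
    apply Subgroup.map_injective K.subtype_injective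
    rw [← MonoidHom.range_eq_map, Subgroup.range_subtype, commutator_def, Subgroup.map_commutator,
      ← MonoidHom.range_eq_map, Subgroup.range_subtype, h.perfect]
  have hQperf : commutator (K ⧸ Subgroup.center K) = ⊤ := by
    rw [commutator_def, ← Subgroup.map_top_of_surjective _ (QuotientGroup.mk'_surjective (Subgroup.center K)),
      ← Subgroup.map_commutator, ← commutator_def, hperf]
  rcases subsingleton_or_nontrivial (K ⧸ Subgroup.center K) with hQ | hQ
  · refine h.not_abelian fun x hx => Subgroup.mem_centralizer_iff.2 fun y hy => ?_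
    have : (⟨x, hx⟩ : K) ∈ Subgroup.center K :=
      (QuotientGroup.eq_one_iff _).1 (Subsingleton.elim _ _)
    exact congrArg Subtype.val (Subgroup.mem_center_iff.1 this ⟨y, hy⟩)
  · exact absurd hQperf (Group.IsSolvable.commutator_lt_top_of_nontrivial _).ne

theorem Setup.cj_eq_iff (_h : Setup p A K) [Finite W] {a : Γ W} :
    cj a K = K ↔ a ∈ Subgroup.normalizer (K : Set (Γ W)) :=
  (Subgroup.mem_normalizer_iff_map_conj_eq).symm

theorem Setup.commute_members (h : Setup p A K) {c d : Γ W} (hc : c ∈ A) (hd : d ∈ A)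
    (hne : cj c K ≠ cj d K) {x y : Γ W} (hx : x ∈ cj c K) (hy : y ∈ cj d K) : Commute x y := by
  have he : cj (c⁻¹ * d) K ≠ K := fun e => hne (by rw [← mul_inv_cancel_left c d, cj_mul c, e])
  have h1 := h.comm _ (A.mul_mem (A.inv_mem hc) hd) he _ (mem_cj.1 hx) (c⁻¹ * y * c) (by
    rw [mem_cj] at hy ⊢
    simpa [mul_assoc] using hy)
  have h2 : c⁻¹ * (x * y) * c = c⁻¹ * (y * x) * c := by
    calc c⁻¹ * (x * y) * c = (c⁻¹ * x * c) * (c⁻¹ * y * c) := by group
      _ = (c⁻¹ * y * c) * (c⁻¹ * x * c) := h1.eq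
      _ = _ := by group
  exact mul_left_cancel (mul_right_cancel h2)

/-- Setups are preserved by homomorphisms not killing `K`. -/
theorem Setup.map {W' : Type v} [AddCommGroup W'] (h : Setup p A K) (S : Subgroup (Γ W))
    (f : S →* Γ W') (hA : A ≤ S) (hK : K ≤ S) (hne : ∃ k : S, (k : Γ W) ∈ K ∧ f k ≠ 1) :
    Setup p ((A.subgroupOf S).map f) ((K.subgroupOf S).map f) := by
  have hperf : ⁅(K.subgroupOf S).map f, (K.subgroupOf S).map f⁆ = (K.subgroupOf S).map f := by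
    rw [← Subgroup.map_commutator]
    congr 1
    apply Subgroup.map_injective S.subtype_injective
    rw [Subgroup.map_commutator, Subgroup.map_subgroupOf_eq_of_le hK, h.perfect]
  refine ⟨⟨⟨⟨?_⟩⟩, ?_⟩, hperf, ?_, ?_, ?_⟩
  · rintro ⟨_, x, hx, rfl⟩ ⟨_, y, hy, rfl⟩
    refine Subtype.ext ?_
    simp only [Subgroup.coe_mul, ← map_mul]
    exact congrArg f (Subtype.ext (commute_of_mem h.el hx hy).eq)
  · rintro _ ⟨x, hx, rfl⟩
    rw [← map_pow, show x ^ p = 1 from Subtype.ext (h.el.2 _ hx), map_one]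
  · intro e
    obtain ⟨k, hk, hk1⟩ := hne
    exact hk1 (by rw [← Subgroup.mem_bot, ← e]; exact ⟨k, hk, rfl⟩)
  · intro N hN hnorm
    set N₀ := ((N.comap f).map S.subtype) ⊓ K with hN₀
    rcases h.normals N₀ inf_le_right (fun k hk n hn => by
        obtain ⟨⟨n', hn', rfl⟩, hnK⟩ := hn
        refine ⟨⟨⟨k, hK hk⟩ * n' * ⟨k, hK hk⟩⁻¹, ?_, rfl⟩, K.mul_mem (K.mul_mem hk hnK) (K.inv_mem hk)⟩
        rw [SetLike.mem_coe, Subgroup.mem_comap, map_mul, map_mul, map_inv]
        exact hnorm _ ⟨⟨k, hK hk⟩, hk, rfl⟩ _ hn') with e | e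
    · left
      refine le_antisymm hN ?_
      rintro _ ⟨k, hk, rfl⟩
      have : (k : Γ W) ∈ N₀ := e.symm ▸ hk
      obtain ⟨⟨k', hk', ek⟩, -⟩ := this
      rwa [← S.subtype_injective ek]
    · right
      intro n hn
      obtain ⟨n', hn', rfl⟩ := hN hn
      rw [Subgroup.mem_centralizer_iff]
      rintro _ ⟨k, hk, rfl⟩
      rw [← map_mul, ← map_mul]
      exact congrArg f (Subtype.ext
        (Subgroup.mem_centralizer_iff.1 (e ⟨⟨n', hn, rfl⟩, hn'⟩) (k : Γ W) hk))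
  · rintro _ ⟨a, ha, rfl⟩ hne' _ ⟨x, hx, rfl⟩ y hy
    have haK : cj (a : Γ W) K ≠ K := by
      intro e
      apply hne'
      ext z
      rw [mem_cj]
      constructor
      · rintro ⟨k, hk, ek⟩
        refine ⟨a * k * a⁻¹, ?_, ?_⟩
        · show (a : Γ W) * (k : Γ W) * (a : Γ W)⁻¹ ∈ K
          rw [← e]; exact conj_mem_cj hk
        · rw [map_mul, map_mul, map_inv, ek]; group
      · rintro ⟨k, hk, rfl⟩
        refine ⟨a⁻¹ * k * a, ?_, by rw [map_mul, map_mul, map_inv]⟩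
        show (a : Γ W)⁻¹ * (k : Γ W) * (a : Γ W) ∈ K
        have : (k : Γ W) ∈ cj (a : Γ W) K := by rw [e]; exact hk
        exact mem_cj.1 this
    obtain ⟨k, hk, ek⟩ := (mem_cj.1 hy)
    have hy' : y = f (a * k * a⁻¹) := by rw [map_mul, map_mul, map_inv, ek]; group
    rw [hy']
    have := h.comm _ ha haK _ hx ((a * k * a⁻¹ : S) : Γ W) (conj_mem_cj hk)
    show f x * f _ = f _ * f x
    rw [← map_mul, ← map_mul]
    exact congrArg f (Subtype.ext this.eq)

/-- `A` normalises `K` if the image of `A` normalises the image of `K`. -/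
theorem Setup.normalizes_of_map {W' : Type v} [AddCommGroup W'] [Finite W] [Finite W']
    (h : Setup p A K) (S : Subgroup (Γ W)) (f : S →* Γ W') (hA : A ≤ S) (hK : K ≤ S)
    (hne : ∃ k : S, (k : Γ W) ∈ K ∧ f k ≠ 1) {a : S} (ha : (a : Γ W) ∈ A)
    (hn : f a ∈ Subgroup.normalizer (((K.subgroupOf S).map f : Subgroup (Γ W')) : Set (Γ W'))) :
    cj (a : Γ W) K = K := by
  by_contra hne'
  refine (h.map S f hA hK hne).not_abelian ?_
  rintro _ ⟨x, hx, rfl⟩
  rw [Subgroup.mem_centralizer_iff]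
  rintro _ hy
  obtain ⟨k, hk, ek⟩ := (Subgroup.mem_normalizer_iff''.1 hn _).1 hy
  rename_i y
  have hy' : y = f (a * k * a⁻¹) := by rw [map_mul, map_mul, map_inv, ek]; group
  rw [hy', ← map_mul, ← map_mul]
  exact congrArg f (Subtype.ext (h.comm _ ha hne' _ hx ((a * k * a⁻¹ : S) : Γ W) (conj_mem_cj hk)).eq.symm)

theorem fixer_com_conj {a d g : Γ W} (hd : Commute d a) (hg : g ∈ fixer (com a)) :
    d * g * d⁻¹ ∈ fixer (com a) := by
  intro u hu
  rw [mul_smul, mul_smul, hg _ (smul_mem_com hd.inv_left hu), smul_inv_smul]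

/-- A diagonal homomorphism `δ` commuting with `a` fixes `[W, a]` when some element normalising but
not centralising `K` does. -/
theorem Setup.delta_fixes (h : Setup p A K) [Finite W] {a g : Γ W} (δ : K →* Γ W)
    (hδa : ∀ k, Commute (δ k) a) (hgK : cj g K = K) (hgc : ¬ ∀ k ∈ K, g * k = k * g)
    (hδg : ∀ k k' : K, (k' : Γ W) = g * k * g⁻¹ → g * δ k * g⁻¹ = δ k')
    (hg : g ∈ fixer (com a)) : ∀ k, δ k ∈ fixer (com a) := by
  set F := (fixer (com a)).comap δ with hF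
  have hnorm : ∀ k ∈ K, ∀ n ∈ F.map K.subtype, n ∈ K → k * n * k⁻¹ ∈ F.map K.subtype := by
    rintro k hk _ ⟨n, hn, rfl⟩ -
    refine ⟨⟨k, hk⟩ * n * ⟨k, hk⟩⁻¹, ?_, rfl⟩
    rw [SetLike.mem_coe, hF, Subgroup.mem_comap, map_mul, map_mul, map_inv]
    exact fixer_com_conj (hδa _) hn
  have hmem : ∀ k : K, (k : Γ W)⁻¹ * (g * k * g⁻¹) ∈ F.map K.subtype := by
    intro k
    have hk' : g * (k : Γ W) * g⁻¹ ∈ K := hgK.le (conj_mem_cj k.2)
    refine ⟨k⁻¹ * ⟨_, hk'⟩, ?_, rfl⟩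
    rw [SetLike.mem_coe, hF, Subgroup.mem_comap, map_mul, map_inv, ← hδg k ⟨_, hk'⟩ rfl,
      ← mul_assoc, ← mul_assoc]
    exact mul_mem (by
      have := fixer_com_conj (d := (δ k)⁻¹) (hδa k).inv_left hg
      rwa [inv_inv] at this) ((fixer (com a)).inv_mem hg)
  obtain ⟨k, hk, hnc⟩ : ∃ k ∈ K, k⁻¹ * (g * k * g⁻¹) ∉ Subgroup.centralizer (K : Set (Γ W)) := by
    by_contra hall
    push Not at hall
    exact hgc (h.centralizes_of_central fun k hk =>
      ⟨K.mul_mem (K.inv_mem hk) (hgK.le (conj_mem_cj hk)), hall k hk⟩)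
  have hle := h.normals_eq hnorm (K.mul_mem (K.inv_mem hk) (hgK.le (conj_mem_cj hk))) (hmem ⟨k, hk⟩) hnc
  intro k
  obtain ⟨k', hk', ek⟩ := hle k.2
  rwa [← K.subtype_injective ek]

end CfsgLib.LocalEven.PGV
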