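import Mathlib

/-!
A finite ring of characteristic 2 with field centre and an anti-involution all of whose traces
`x + x*` are central, not commutative modulo nilpotents: it has dimension 4 over the centre, and an
elementary abelian group of automorphisms commuting with the anti-involution fixes few symmetric
elements.
-/

set_option autoImplicit false

namespace CfsgLib.LocalEven.PGV

universe v

theorem autGroup_card_sq_le {F : Type v} [Field F] [Finite F] [CharP F 2]
    (E : Subgroup (F ≃+* F)) {i : ℕ} (hE : Nat.card E = 2 ^ i) :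
    Nat.card E * Nat.card E ≤ Nat.card F := by
  haveI : Fact (Nat.Prime 2) := ⟨Nat.prime_two⟩
  letI : Algebra (ZMod 2) F := ZMod.algebra F 2
  haveI : Finite (F ≃ₐ[ZMod 2] F) := Finite.of_injective _ DFunLike.coe_injective
  let f : E → (F ≃ₐ[ZMod 2] F) := fun σ => AlgEquiv.ofRingEquiv (f := (σ : F ≃+* F)) fun z => by
    have e : ((σ : F ≃+* F).toRingHom.comp (algebraMap (ZMod 2) F)) = algebraMap (ZMod 2) F :=
      Subsingleton.elim _ _
    exact RingHom.congr_fun e z
  have hf : Function.Injective f := fun σ τ h => Subtype.ext (RingEquiv.ext fun x =>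
    DFunLike.congr_fun h x)
  have h1 : Nat.card E ≤ Module.finrank (ZMod 2) F := by
    refine (Nat.card_le_card_of_injective f hf).trans ?_
    letI := AlgEquiv.fintype (ZMod 2) F
    rw [Nat.card_eq_fintype_card]
    exact AlgEquiv.card_le (F := ZMod 2) (K := F)
  rw [Module.natCard_eq_pow_finrank (K := ZMod 2) (V := F), Nat.card_zmod, hE] at *
  rw [← pow_add]
  refine Nat.pow_le_pow_right two_pos (le_trans ?_ h1)
  clear h1 hE hf
  induction i with
  | zero => simp
  | succ i ih =>
    rw [pow_succ]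
    rcases Nat.eq_zero_or_pos i with rfl | hi
    · simp
    · omega

variable {R : Type v} [Ring R]

/-- Sums of equal elements vanish. -/
theorem add_eq_zero_iff' (h2 : ∀ x : R, x + x = 0) {a b : R} : a + b = 0 ↔ a = b := by
  constructor
  · intro h
    calc a = a + (b + b) := by rw [h2, add_zero]
      _ = b := by rw [← add_assoc, h, zero_add]
  · rintro rfl; exact h2 a

theorem sub_eq_add' (h2 : ∀ x : R, x + x = 0) (a b : R) : a - b = a + b := by
  rw [sub_eq_iff_eq_add, add_assoc, h2, add_zero]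

theorem local_bound [Finite R] (h2 : ∀ x : R, x + x = 0) (st : R ≃+ R)
    (hanti : ∀ x y, st (x * y) = st y * st x) (hinv : ∀ x, st (st x) = x)
    (htc : ∀ x : R, x + st x ∈ Subring.center R)
    (hfixZ : ∀ z ∈ Subring.center R, st z = z)
    (hfield : ∀ z ∈ Subring.center R, z ≠ 0 → ∃ w ∈ Subring.center R, z * w = 1)
    (hne : (1 : R) ≠ 0) (u : R) (hu : u + st u = 1)
    (hgen : ∀ J : AddSubgroup R, (∀ r, ∀ x ∈ J, r * x ∈ J ∧ x * r ∈ J) →
      (∀ x y, x * y - y * x ∈ J) → (1 : R) ∈ J)
    (P : Subgroup (R ≃+* R)) (hP2 : ∀ σ ∈ P, σ * σ = 1)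
    (hPc : ∀ σ ∈ P, ∀ τ ∈ P, σ * τ = τ * σ)
    (hst : ∀ σ ∈ P, ∀ x, σ (st x) = st (σ x)) :
    Nat.card R = Nat.card (Subring.center R) ^ 4 ∧
      Nat.card {x : R // st x = x ∧ ∀ σ ∈ P, σ x = x} * Nat.card P ≤
        Nat.card (Subring.center R) ^ 3 := by
  classical
  haveI : Finite (R ≃+* R) := Finite.of_injective _ DFunLike.coe_injective
  set Z := Subring.center R with hZ
  set q := Nat.card Z with hq
  have hz : ∀ {z : R}, z ∈ Z → ∀ x, z * x = x * z := fun hz x =>
    (Subring.mem_center_iff.1 hz x).symm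
  have hmk : ∀ {z : R}, (∀ x, z * x = x * z) → z ∈ Z := fun h =>
    Subring.mem_center_iff.2 fun x => (h x).symm
  have st_u : st u = 1 + u := by
    calc st u = u + u + st u := by rw [h2, zero_add]
      _ = u + 1 := by rw [add_assoc, hu]
      _ = 1 + u := add_comm _ _
  have st_zmul : ∀ {z : R}, z ∈ Z → ∀ x, st (z * x) = z * st x := fun hzz x => by
    rw [hanti, hfixZ _ hzz, hz hzz]
  -- the space `H₀`
  let InH0 : R → Prop := fun c => st c = c ∧ c * u = u * c + c
  have H0_add : ∀ {c d}, InH0 c → InH0 d → InH0 (c + d) := fun hc hd =>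
    ⟨by rw [map_add, hc.1, hd.1], by rw [add_mul, mul_add, hc.2, hd.2]; abel⟩
  have H0_smul : ∀ {z c}, z ∈ Z → InH0 c → InH0 (z * c) := fun {z c} hzz hc =>
    ⟨by rw [st_zmul hzz, hc.1], by
      rw [mul_assoc, hc.2, mul_add, ← mul_assoc, hz hzz u, mul_assoc]⟩
  have H0_u : ∀ {c}, InH0 c → InH0 (u * c) := fun {c} hc => ⟨by
      rw [hanti, hc.1, st_u, mul_add, mul_one, hc.2]
      rw [add_comm (u * c) c, ← add_assoc, h2, zero_add],
    by rw [mul_assoc, hc.2, mul_add]⟩
  have lam_mem : ∀ {h : R}, st h = h → h * u + u * h + h ∈ Z := fun {h} hh => by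
    have := htc (h * u)
    rwa [hanti, hh, st_u, add_mul, one_mul, add_comm h (u * h), ← add_assoc] at this
  have dec : ∀ x : R, ∃ a ∈ Z, ∃ b ∈ Z, ∃ c, InH0 c ∧ x = a + b * u + c := by
    intro x
    set b := x + st x with hb
    have hbZ : b ∈ Z := htc x
    set y := x + b * u with hy
    have hyst : st y = y := by
      have e : st y + y = 0 := by
        rw [hy, map_add, st_zmul hbZ, st_u, mul_add, mul_one]
        calc st x + (b + b * u) + (x + b * u) = (x + st x) + b + (b * u + b * u) := by abel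
          _ = 0 := by rw [← hb, h2, zero_add, h2]
      exact (add_eq_zero_iff' h2).1 e
    set a := y * u + u * y + y with ha
    have haZ : a ∈ Z := lam_mem hyst
    refine ⟨a, haZ, b, hbZ, y + a, ⟨by rw [map_add, hyst, hfixZ a haZ], ?_⟩, ?_⟩
    · apply (add_eq_zero_iff' h2).1
      rw [add_mul, mul_add, hz haZ u]
      calc y * u + u * a + (u * y + u * a + (y + a))
          = (y * u + u * y + y) + a + (u * a + u * a) := by abel
        _ = 0 := by rw [← ha, h2, zero_add, h2]
    · calc x = x + (b * u + b * u) + (a + a) := by rw [h2, h2, add_zero, add_zero]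
        _ = a + b * u + (y + a) := by rw [hy]; abel
  have comm_u : ∀ {x : R}, x * u = u * x → ∃ a ∈ Z, ∃ b ∈ Z, x = a + b * u := by
    intro x hx
    obtain ⟨a, ha, b, hb, c, hc, rfl⟩ := dec x
    refine ⟨a, ha, b, hb, ?_⟩
    have e : c * u = u * c := by
      rw [add_mul, add_mul, mul_add, mul_add, hz ha u] at hx
      rw [mul_assoc, show u * (b * u) = b * (u * u) by rw [← mul_assoc, ← hz hb u, mul_assoc]] at hx
      exact add_left_cancel hx
    have : c = 0 := by rw [hc.2] at e; exact left_eq_add.1 e.symm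
    rw [this, add_zero]
  have prod_u : ∀ {c d}, InH0 c → InH0 d → (c * d) * u = u * (c * d) := fun {c d} hc hd => by
    rw [mul_assoc, hd.2, mul_add, ← mul_assoc, hc.2, add_mul, add_assoc, h2, add_zero, mul_assoc]
  have sym_sum : ∀ {c d : R}, st c = c → st d = d → c * d + d * c ∈ Z := fun {c d} hc hd => by
    have := htc (c * d); rwa [hanti, hc, hd] at this
  have sq_mem : ∀ {c}, InH0 c → c * c ∈ Z := fun {c} hc => hmk fun x => by
    obtain ⟨a, ha, b, hb, d, hd, rfl⟩ := dec x
    have h1 : c * c * d = d * (c * c) := by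
      set s := c * d + d * c with hs
      have hsZ : s ∈ Z := sym_sum hc.1 hd.1
      have e1 : c * d = s + d * c := by rw [hs, add_assoc, h2, add_zero]
      calc c * c * d = c * (s + d * c) := by rw [mul_assoc, e1]
        _ = c * s + (c * d) * c := by rw [mul_add, ← mul_assoc]
        _ = c * s + (s + d * c) * c := by rw [e1]
        _ = (c * s + s * c) + d * c * c := by rw [add_mul]; abel
        _ = d * (c * c) := by rw [hz hsZ c, h2, zero_add, mul_assoc]
    have h3 : c * c * (b * u) = b * u * (c * c) := by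
      rw [← mul_assoc, ← hz hb (c * c), mul_assoc b, prod_u hc hc, ← mul_assoc]
    rw [mul_add, mul_add, add_mul, add_mul, h1, h3, hz ha (c * c)]
  -- some element of `H₀` has nonzero square
  have hex : ∃ c, InH0 c ∧ c * c ≠ 0 := by
    by_contra hall
    push Not at hall
    have hcd : ∀ {c d}, InH0 c → InH0 d → c * d = 0 := by
      intro c d hc hd
      have e : c * d = d * c := by
        apply (add_eq_zero_iff' h2).1
        have := hall _ (H0_add hc hd)
        rw [add_mul, mul_add, mul_add, hall c hc, hall d hd, zero_add, add_zero] at this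
        exact this
      have hZ' : c * d ∈ Z := by
        have hs : st (c * d) = c * d := by rw [hanti, hc.1, hd.1, e]
        have := lam_mem hs
        rwa [prod_u hc hd, h2, zero_add] at this
      by_contra hne0
      obtain ⟨w, hw, hw1⟩ := hfield _ hZ' hne0
      apply hne0
      have hcc : c * d * c = 0 := by rw [e, mul_assoc, hall c hc, mul_zero]
      have c0 : c = 0 := by
        calc c = (c * d * w) * c := by rw [hw1, one_mul]
          _ = (c * d * c) * w := by rw [mul_assoc (c * d), hz hw c, ← mul_assoc]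
          _ = 0 := by rw [hcc, zero_mul]
      rw [c0, zero_mul]
    let J : AddSubgroup R :=
      { carrier := {c | InH0 c}
        add_mem' := H0_add
        zero_mem' := ⟨map_zero st, by simp⟩
        neg_mem' := fun {c} hc => by
          rwa [show (-c : R) = c from neg_eq_of_add_eq_zero_left (h2 c)] }
    have h1 : (1 : R) ∈ J := by
      refine hgen J (fun r x hx => ?_) fun x y => ?_
      · obtain ⟨a, ha, b, hb, c, hc, rfl⟩ := dec r
        constructor
        · rw [add_mul, add_mul, hcd hc hx, add_zero, mul_assoc]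
          exact H0_add (H0_smul ha hx) (H0_smul hb (H0_u hx))
        · rw [mul_add, mul_add, hcd hx hc, add_zero, ← mul_assoc, ← hz ha x, ← hz hb x,
            mul_assoc b x u, hx.2]
          exact H0_add (H0_smul ha hx) (H0_smul hb (H0_add (H0_u hx) hx))
      · obtain ⟨a, ha, b, hb, c, hc, rfl⟩ := dec x
        obtain ⟨a', ha', b', hb', c', hc', rfl⟩ := dec y
        have e : (a + b * u + c) * (a' + b' * u + c') - (a' + b' * u + c') * (a + b * u + c) =
            b * c' + b' * c := by
          rw [sub_eq_add' h2]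
          have e1 : c * (b' * u) = b' * (u * c) + b' * c := by
            rw [← mul_assoc, ← hz hb' c, mul_assoc, hc.2, mul_add]
          have e2 : c' * (b * u) = b * (u * c') + b * c' := by
            rw [← mul_assoc, ← hz hb c', mul_assoc, hc'.2, mul_add]
          have e3' : ∀ {b b' : R}, b' ∈ Z → b * u * (b' * u) = b * b' * (u * u) := fun {b b'} hb' => by
            rw [mul_assoc, ← mul_assoc u b', ← hz hb' u, mul_assoc b' u u, ← mul_assoc]
          have e3 : b * u * (b' * u) = b' * u * (b * u) := by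
            rw [e3' hb', e3' hb, hz hb b']
          simp only [add_mul, mul_add]
          rw [hcd hc hc', hcd hc' hc, e1, e2, e3, hz ha a', hz ha (b' * u), hz ha c', hz ha' (b * u),
            hz ha' c, mul_assoc b u c', mul_assoc b' u c]
          calc _ = (a' * a + a' * a) + (b' * u * a + b' * u * a) + (c' * a + c' * a)
                + (b * u * a' + b * u * a') + (c * a' + c * a') + (b' * u * (b * u) + b' * u * (b * u))
                + (b * (u * c') + b * (u * c')) + (b' * (u * c) + b' * (u * c))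
                + (b * c' + b' * c) := by abel
            _ = _ := by simp only [h2, zero_add, add_zero]
        rw [e]
        exact H0_add (H0_smul hb hc') (H0_smul hb' hc)
    have e := h1.2
    rw [one_mul, mul_one, left_eq_add] at e
    exact hne e
  have frob_inj : Function.Injective (fun z : Z => z * z) := by
    intro z w h
    apply Subtype.ext
    have h' : (z : R) * z = w * w := congrArg Subtype.val h
    apply (add_eq_zero_iff' h2).1
    by_contra hne0
    obtain ⟨v, hv, hv1⟩ := hfield _ (add_mem z.2 w.2) hne0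
    have e : ((z : R) + w) * ((z : R) + w) = 0 := by
      rw [add_mul, mul_add, mul_add, h', hz z.2 w]
      calc (w : R) * w + w * z + (w * z + w * w) = (w * w + w * w) + (w * z + w * z) := by abel
        _ = 0 := by rw [h2, h2, add_zero]
    have e' := congrArg (fun x => x * v) e
    simp only [zero_mul, mul_assoc, hv1, mul_one] at e'
    exact hne0 e'
  have sqrtZ : ∀ {z : R}, z ∈ Z → ∃ w ∈ Z, w * w = z := fun {z} hzz => by
    obtain ⟨w, hw⟩ := (Finite.injective_iff_surjective.1 frob_inj) ⟨z, hzz⟩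
    exact ⟨w, w.2, congrArg Subtype.val hw⟩
  obtain ⟨c₀, hc₀, hc₀ne⟩ := hex
  obtain ⟨g, hg, hg1⟩ := hfield _ (sq_mem hc₀) hc₀ne
  obtain ⟨r, hr, hr2⟩ := sqrtZ hg
  set c := r * c₀ with hcdef
  have hc : InH0 c := H0_smul hr hc₀
  have hcc : c * c = 1 := by
    rw [hcdef, mul_assoc, ← mul_assoc c₀, ← hz hr c₀, mul_assoc r, ← mul_assoc, hr2, ← hz (sq_mem hc₀) g,
      hg1]
  set d := u * c with hddef
  have hd : InH0 d := H0_u hc
  have hdc : d * c = u := by rw [hddef, mul_assoc, hcc, mul_one]
  have hcd' : c * d = u + 1 := by rw [hddef, ← mul_assoc, hc.2, add_mul, mul_assoc, hcc, mul_one]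
  have H0_span : ∀ {h}, InH0 h → ∃ a ∈ Z, ∃ b ∈ Z, h = a * c + b * d := fun {h} hh => by
    obtain ⟨a, ha, b, hb, e⟩ := comm_u (prod_u hh hc)
    refine ⟨a, ha, b, hb, ?_⟩
    calc h = (h * c) * c := by rw [mul_assoc, hcc, mul_one]
      _ = _ := by rw [e, add_mul, mul_assoc b u c]
  let β : R → R → R := fun x y => x * y + y * x
  have β_comm : ∀ x y, β x y = β y x := fun x y => add_comm _ _
  have β_add : ∀ x y z, β (x + y) z = β x z + β y z := fun x y z => by
    simp only [β, add_mul, mul_add]; abel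
  have β_smul : ∀ {a : R}, a ∈ Z → ∀ x y, β (a * x) y = a * β x y := fun {a} ha x y => by
    simp only [β, mul_add, mul_assoc]
    rw [← mul_assoc y a x, ← hz ha y, mul_assoc]
  have β_z : ∀ {a : R}, a ∈ Z → ∀ y, β a y = 0 := fun {a} ha y => by
    simp only [β]; rw [hz ha y, h2]
  have β_self : ∀ x, β x x = 0 := fun x => h2 _
  have β_cd : β c d = 1 := by
    show c * d + d * c = 1
    rw [hcd', hdc, add_assoc, add_comm 1 u, ← add_assoc, h2, zero_add]
  have β_mem : ∀ {x y : R}, st x = x → st y = y → β x y ∈ Z := fun hx hy => sym_sum hx hy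
  -- coordinates on the symmetric elements
  have hcoord : ∀ {x : R}, st x = x → ∃ a ∈ Z, x = a + β x d * c + β x c * d := by
    intro x hx
    obtain ⟨a, ha, b, hb, h, hh, e⟩ := dec x
    obtain ⟨g1, hg1', g2, hg2, rfl⟩ := H0_span hh
    have hb0 : b = 0 := by
      have e1 := congrArg st e
      rw [hx, map_add, map_add, hfixZ a ha, st_zmul hb, st_u, hh.1, mul_add, mul_one] at e1
      rw [e, add_left_inj, add_right_inj] at e1
      exact right_eq_add.1 e1
    rw [hb0, zero_mul, add_zero] at e
    refine ⟨a, ha, ?_⟩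
    have h1 : β x d = g1 := by
      rw [e, β_add, β_add, β_z ha, β_smul hg1', β_smul hg2, β_cd, β_self, mul_one, mul_zero, zero_add,
        add_zero]
    have h3 : β x c = g2 := by
      rw [e, β_add, β_add, β_z ha, β_smul hg1', β_smul hg2, β_self, β_comm d c, β_cd, mul_one, mul_zero,
        zero_add, zero_add]
    rw [h1, h3, e, add_assoc]
  have hZst : ∀ {a : R}, a ∈ Z → st a = a := fun ha => hfixZ _ ha
  have Hst : ∀ {a g1 g2 : R}, a ∈ Z → g1 ∈ Z → g2 ∈ Z → st (a + g1 * c + g2 * d) = a + g1 * c + g2 * d :=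
    fun ha h1 h3 => by rw [map_add, map_add, hZst ha, st_zmul h1, st_zmul h3, hc.1, hd.1]
  let Φ : Z × Z × Z → {x : R // st x = x} := fun t =>
    ⟨(t.1 : R) + t.2.1 * c + t.2.2 * d, Hst t.1.2 t.2.1.2 t.2.2.2⟩
  have Φbij : Function.Bijective Φ := by
    constructor
    · rintro ⟨a, g1, g2⟩ ⟨a', g1', g2'⟩ h
      have h' : (a : R) + g1 * c + g2 * d = a' + g1' * c + g2' * d := congrArg Subtype.val h
      have k1 := congrArg (fun x => β x d) h'
      have k2 := congrArg (fun x => β x c) h'
      simp only [β_add, β_z a.2, β_z a'.2, β_smul g1.2, β_smul g1'.2, β_smul g2.2, β_smul g2'.2,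
        β_self, β_cd, β_comm d c, mul_one, mul_zero, zero_add, add_zero] at k1 k2
      have e1 : g1 = g1' := Subtype.ext k1
      have e2 : g2 = g2' := Subtype.ext k2
      subst e1 e2
      rw [add_left_inj, add_left_inj] at h'
      exact Prod.ext (Subtype.ext h') rfl
    · rintro ⟨x, hx⟩
      obtain ⟨a, ha, e⟩ := hcoord hx
      exact ⟨(⟨a, ha⟩, ⟨β x d, β_mem hx hd.1⟩, ⟨β x c, β_mem hx hc.1⟩), Subtype.ext e.symm⟩
  have cardH : Nat.card {x : R // st x = x} = q ^ 3 := by
    rw [← Nat.card_congr (Equiv.ofBijective Φ Φbij), Nat.card_prod, Nat.card_prod]; ring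
  let Ψ : Z × {x : R // st x = x} → R := fun t => (t.1 : R) * u + t.2
  have Ψbij : Function.Bijective Ψ := by
    have htr : ∀ (b : Z) (h : {x : R // st x = x}), Ψ (b, h) + st (Ψ (b, h)) = b := fun b h => by
      simp only [Ψ, map_add, st_zmul b.2, h.2]
      calc (b : R) * u + h + (b * st u + h) = b * (u + st u) + (h + h : R) := by rw [mul_add]; abel
        _ = b := by rw [hu, h2, mul_one, add_zero]
    constructor
    · rintro ⟨b, h⟩ ⟨b', h'⟩ e
      have eb : b = b' := Subtype.ext (by rw [← htr b h, e, htr b' h'])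
      subst eb
      exact Prod.ext rfl (Subtype.ext (add_left_cancel e))
    · intro x
      refine ⟨(⟨_, htc x⟩, ⟨x + (x + st x) * u, ?_⟩), ?_⟩
      · rw [map_add, st_zmul (htc x), st_u, mul_add, mul_one]
        calc st x + (x + st x + (x + st x) * u) = x + (st x + st x) + (x + st x) * u := by abel
          _ = _ := by rw [h2, add_zero]
      · simp only [Ψ]
        calc (x + st x) * u + (x + (x + st x) * u) = x + ((x + st x) * u + (x + st x) * u) := by abel
          _ = x := by rw [h2, add_zero]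
  have cardR : Nat.card R = q ^ 4 := by
    rw [← Nat.card_congr (Equiv.ofBijective Ψ Ψbij), Nat.card_prod, cardH]; ring
  refine ⟨cardR, ?_⟩
  -- automorphisms
  have hσZ : ∀ σ ∈ P, ∀ z ∈ Z, σ z ∈ Z := fun σ _ z hzz => hmk fun x => by
    obtain ⟨y, rfl⟩ := σ.surjective x
    rw [← map_mul, ← map_mul, hz hzz]
  have hσH : ∀ σ ∈ P, ∀ x, st x = x → st (σ x) = σ x := fun σ hσ x hx => by rw [← hst σ hσ, hx]
  have hσβ : ∀ (σ : R ≃+* R) x y, σ (β x y) = β (σ x) (σ y) := fun σ x y => by
    simp only [β, map_add, map_mul]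
  have hq2 : 2 ≤ q := by
    rw [hq, Nat.succ_le_iff, Finite.one_lt_card_iff_nontrivial]
    exact ⟨⟨0, 1, fun e => hne (congrArg Subtype.val e).symm⟩⟩
  have inv_of : ∀ {z : R}, z ∈ Z → z ≠ 0 → ∃ w ∈ Z, w * z = 1 := fun hzz h0 => by
    obtain ⟨w, hw, e⟩ := hfield _ hzz h0
    exact ⟨w, hw, by rw [hz hw]; exact e⟩
  have inZ_of_coord : ∀ {x : R}, st x = x → β x d = 0 → β x c = 0 → x ∈ Z := fun hx h1 h3 => by
    obtain ⟨a, ha, e⟩ := hcoord hx
    rw [e, h1, h3, zero_mul, zero_mul, add_zero, add_zero]; exact ha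
  have β_expand : ∀ {x y : R}, st x = x → st y = y → β x y = β x d * β y c + β x c * β y d := by
    intro x y hx hy
    obtain ⟨a, ha, e⟩ := hcoord hx
    have hxd := β_mem hx hd.1
    have hxc := β_mem hx hc.1
    calc β x y = β (a + β x d * c + β x c * d) y := by rw [← e]
      _ = β x d * β c y + β x c * β d y := by
        rw [β_add, β_add, β_z ha, β_smul hxd, β_smul hxc, zero_add]
      _ = _ := by rw [β_comm c y, β_comm d y]
  let P1 : Subgroup (R ≃+* R) :=
    { carrier := {σ | σ ∈ P ∧ ∀ z ∈ Z, σ z = z}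
      mul_mem' := fun {σ τ} hσ hτ => ⟨P.mul_mem hσ.1 hτ.1, fun z hzz => by
        rw [RingAut.mul_apply, hτ.2 z hzz, hσ.2 z hzz]⟩
      one_mem' := ⟨P.one_mem, fun z _ => rfl⟩
      inv_mem' := fun {σ} hσ => ⟨P.inv_mem hσ.1, fun z hzz => by
        conv_lhs => rw [← hσ.2 z hzz]
        exact σ.symm_apply_apply z⟩ }
  -- an element of `P1` fixing two independent symmetric elements is trivial
  have span_fix : ∀ σ ∈ P1, ∀ x w : R, st x = x → st w = w → β x w ≠ 0 → σ x = x → σ w = w → σ = 1 := by
    intro σ hσ x w hx hw hD hσx hσw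
    obtain ⟨D, hD', hD1⟩ := inv_of (β_mem hx hw) hD
    have key : ∀ y, st y = y → σ y = y := by
      intro y hy
      set k1 := D * β y x
      set k2 := D * β y w
      have hk1 : k1 ∈ Z := mul_mem hD' (β_mem hy hx)
      have hk2 : k2 ∈ Z := mul_mem hD' (β_mem hy hw)
      set y' := y + k1 * w + k2 * x with hy'
      have hy's : st y' = y' := by
        rw [hy', map_add, map_add, st_zmul hk1, st_zmul hk2, hy, hw, hx]
      have p1 : β y' x = 0 := by
        rw [hy', β_add, β_add, β_smul hk1, β_smul hk2, β_self, mul_zero, add_zero, β_comm w x]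
        show β y x + D * β y x * β x w = 0
        rw [mul_assoc, hz (β_mem hy hx), ← mul_assoc, hD1, one_mul, h2]
      have p2 : β y' w = 0 := by
        rw [hy', β_add, β_add, β_smul hk1, β_smul hk2, β_self, mul_zero, add_zero]
        show β y w + D * β y w * β x w = 0
        rw [mul_assoc, hz (β_mem hy hw), ← mul_assoc, hD1, one_mul, h2]
      -- so both coordinates of `y'` vanish
      have Dne := hD
      rw [β_expand hx hw] at Dne
      rw [β_expand hy's hx] at p1
      rw [β_expand hy's hw] at p2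
      have m1 := β_mem hy's hd.1
      have m2 := β_mem hy's hc.1
      have e := β_expand hx hw
      have two : (1 : Z) + 1 = 0 := Subtype.ext (h2 1)
      let Y1 : Z := ⟨β y' d, m1⟩
      let Y2 : Z := ⟨β y' c, m2⟩
      let X1 : Z := ⟨β x d, β_mem hx hd.1⟩
      let X2 : Z := ⟨β x c, β_mem hx hc.1⟩
      let W1 : Z := ⟨β w d, β_mem hw hd.1⟩
      let W2 : Z := ⟨β w c, β_mem hw hc.1⟩
      have P1' : Y1 * X2 + Y2 * X1 = 0 := Subtype.ext p1
      have P2' : Y1 * W2 + Y2 * W1 = 0 := Subtype.ext p2
      have q1 : β y' d * β x w = 0 := by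
        have h : Y1 * (X1 * W2 + X2 * W1) = 0 := by
          linear_combination X1 * P2' + W1 * P1' - (X1 * W1 * Y2) * two
        rw [e]; exact congrArg Subtype.val h
      have q2 : β y' c * β x w = 0 := by
        have h : Y2 * (X1 * W2 + X2 * W1) = 0 := by
          linear_combination X2 * P2' + W2 * P1' - (X2 * W2 * Y1) * two
        rw [e]; exact congrArg Subtype.val h
      obtain ⟨D2, hD2, hD21⟩ := inv_of (β_mem hx hw) hD
      have z1 : β y' d = 0 := by
        calc β y' d = β y' d * β x w * D := by rw [mul_assoc, ← hz hD', hD1, mul_one]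
          _ = 0 := by rw [q1, zero_mul]
      have z2 : β y' c = 0 := by
        calc β y' c = β y' c * β x w * D := by rw [mul_assoc, ← hz hD', hD1, mul_one]
          _ = 0 := by rw [q2, zero_mul]
      have hy'Z : y' ∈ Z := inZ_of_coord hy's z1 z2
      have hy'f := hσ.2 _ hy'Z
      have f1 : σ (k1 * w) = k1 * w := by rw [map_mul σ k1 w, hσ.2 k1 hk1, hσw]
      have f2 : σ (k2 * x) = k2 * x := by rw [map_mul σ k2 x, hσ.2 k2 hk2, hσx]
      rw [hy', map_add, map_add, f1, f2] at hy'f
      exact add_right_cancel (add_right_cancel hy'f)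
    refine RingEquiv.ext fun z => ?_
    obtain ⟨a, ha, b, hb, h, hh, rfl⟩ := dec z
    have hσu : σ u = u := by rw [← hdc, map_mul, key d hd.1, key c hc.1]
    rw [map_add, map_add, map_mul, hσ.2 a ha, hσ.2 b hb, hσu, key h hh.1]
    rfl
  let HP1 : Type v := {x : R // st x = x ∧ ∀ σ ∈ P1, σ x = x}
  have hb1 : Nat.card HP1 * Nat.card P1 ≤ q ^ 3 := by
    by_cases hP1 : P1 = ⊥
    · rw [hP1, Subgroup.card_bot, mul_one, ← cardH]
      exact Nat.card_le_card_of_injective (fun x => ⟨x.1, x.2.1⟩) fun x y h =>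
        Subtype.ext (congrArg (fun t : {x : R // st x = x} => t.1) h)
    obtain ⟨⟨b₀, hb₀⟩, hb₀ne⟩ : ∃ b : P1, b ≠ 1 := by
      haveI := (Subgroup.nontrivial_iff_ne_bot P1).2 hP1
      exact exists_ne 1
    have hb₀1 : b₀ ≠ 1 := fun h => hb₀ne (Subtype.ext h)
    -- a fixed vector outside the centre
    have hfixw : ∃ w, st w = w ∧ b₀ w = w ∧ w ∉ Z := by
      by_contra hno
      push Not at hno
      have hN : ∀ x, st x = x → b₀ x + x ∈ Z := fun x hx => hno _
        (by rw [map_add, hσH b₀ hb₀.1 x hx, hx])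
        (by rw [map_add, ← RingAut.mul_apply, hP2 b₀ hb₀.1, RingAut.one_apply, add_comm])
      let N : Z × Z → Z := fun t => ⟨b₀ (t.1 * c + t.2 * d) + (t.1 * c + t.2 * d), hN _ (by
        rw [map_add, st_zmul t.1.2, st_zmul t.2.2, hc.1, hd.1])⟩
      have Ninj : Function.Injective N := by
        rintro ⟨s1, s2⟩ ⟨t1, t2⟩ h
        have h' : b₀ (s1 * c + s2 * d) + (s1 * c + s2 * d) =
            b₀ (t1 * c + t2 * d) + (t1 * c + t2 * d) := congrArg Subtype.val h
        set x := (s1 * c + s2 * d : R) + (t1 * c + t2 * d) with hx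
        have hxs : st x = x := by
          rw [hx, map_add, map_add, map_add, st_zmul s1.2, st_zmul s2.2, st_zmul t1.2, st_zmul t2.2,
            hc.1, hd.1]
        have hfx : b₀ x = x := by
          apply (add_eq_zero_iff' h2).1
          calc b₀ x + x = (b₀ (s1 * c + s2 * d) + (s1 * c + s2 * d)) +
              (b₀ (t1 * c + t2 * d) + (t1 * c + t2 * d)) := by rw [hx, map_add]; abel
            _ = 0 := by rw [h', h2]
        have hxZ := hno x hxs hfx
        have k1 : β x d = 0 := β_z hxZ d
        have k2 : β x c = 0 := β_z hxZ c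
        simp only [hx, β_add, β_smul s1.2, β_smul s2.2, β_smul t1.2, β_smul t2.2, β_self, β_cd,
          β_comm d c, mul_one, mul_zero, zero_add, add_zero] at k1 k2
        exact Prod.ext (Subtype.ext ((add_eq_zero_iff' h2).1 k1))
          (Subtype.ext ((add_eq_zero_iff' h2).1 k2))
      have := Nat.card_le_card_of_injective N Ninj
      rw [Nat.card_prod] at this
      nlinarith
    obtain ⟨w₀, hw₀, hw₀f, hw₀Z⟩ := hfixw
    have sqadd : ∀ {a h : R}, a ∈ Z → (a + h) * (a + h) = a * a + h * h := fun {a h} ha => by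
      rw [add_mul, mul_add, mul_add, hz ha h]
      calc a * a + h * a + (h * a + h * h) = a * a + h * h + (h * a + h * a) := by abel
        _ = _ := by rw [h2, add_zero]
    have sqH : ∀ {x : R}, st x = x → x * x ∈ Z := fun {x} hx => by
      obtain ⟨a, ha, e⟩ := hcoord hx
      have hh := H0_add (H0_smul (β_mem hx hd.1) hc) (H0_smul (β_mem hx hc.1) hd)
      rw [add_assoc] at e
      rw [e]
      rw [sqadd ha]
      exact add_mem (mul_mem ha ha) (sq_mem hh)
    obtain ⟨s, hs, hs2⟩ := sqrtZ (sqH hw₀)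
    set w := w₀ + s with hwdef
    have hw : st w = w := by rw [hwdef, map_add, hw₀, hZst hs]
    have hwf : b₀ w = w := by rw [hwdef, map_add, hw₀f, hb₀.2 s hs]
    have hw2 : w * w = 0 := by
      rw [hwdef, add_mul, mul_add, mul_add, hz hs w₀, hs2]
      calc w₀ * w₀ + w₀ * s + (w₀ * s + w₀ * w₀) = (w₀ * w₀ + w₀ * w₀) + (w₀ * s + w₀ * s) := by abel
        _ = 0 := by rw [h2, h2, add_zero]
    have hwZ : w ∉ Z := fun h => hw₀Z (by
      have := add_mem h hs
      rwa [hwdef, add_assoc, h2, add_zero] at this)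
    -- `β x w = 0` forces `x ∈ Z + Z w`
    have hperp : ∀ {x : R}, st x = x → β x w = 0 → ∃ a ∈ Z, ∃ l ∈ Z, x = a + l * w := by
      intro x hx h0
      rw [β_expand hx hw] at h0
      have h0' := (add_eq_zero_iff' h2).1 h0
      by_cases hwc : β w c = 0
      · have hwd : β w d ≠ 0 := fun h => hwZ (inZ_of_coord hw h hwc)
        obtain ⟨i, hi, hi1⟩ := inv_of (β_mem hw hd.1) hwd
        have hxc0 : β x c = 0 := by
          rw [hwc, mul_zero] at h0'
          calc β x c = β x c * β w d * i := by rw [mul_assoc, ← hz hi, hi1, mul_one]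
            _ = 0 := by rw [← h0', zero_mul]
        refine ⟨x + (β x d * i) * w, ?_, β x d * i, mul_mem (β_mem hx hd.1) hi, by rw [add_assoc, h2, add_zero]⟩
        refine inZ_of_coord (by rw [map_add, st_zmul (mul_mem (β_mem hx hd.1) hi), hx, hw]) ?_ ?_
        · rw [β_add, β_smul (mul_mem (β_mem hx hd.1) hi), mul_assoc, hi1, mul_one, h2]
        · rw [β_add, β_smul (mul_mem (β_mem hx hd.1) hi), hwc, mul_zero, hxc0, add_zero]
      · obtain ⟨i, hi, hi1⟩ := inv_of (β_mem hw hc.1) hwc
        refine ⟨x + (β x c * i) * w, ?_, β x c * i, mul_mem (β_mem hx hc.1) hi, by rw [add_assoc, h2, add_zero]⟩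
        refine inZ_of_coord (by rw [map_add, st_zmul (mul_mem (β_mem hx hc.1) hi), hx, hw]) ?_ ?_
        · rw [β_add, β_smul (mul_mem (β_mem hx hc.1) hi)]
          have : β x c * i * β w d = β x d := by
            rw [mul_assoc, hz hi, ← mul_assoc, ← h0', mul_assoc, ← hz hi, hi1, mul_one]
          rw [this, h2]
        · rw [β_add, β_smul (mul_mem (β_mem hx hc.1) hi), mul_assoc, hi1, mul_one, h2]
    have hfixed : ∀ {x : R}, st x = x → b₀ x = x → ∃ a ∈ Z, ∃ l ∈ Z, x = a + l * w := fun hx hxf =>
      hperp hx (by_contra fun hD => hb₀1 (span_fix b₀ hb₀ _ w hx hw hD hxf hwf))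
    have card2 : Nat.card HP1 ≤ q * q := by
      have hfx : ∀ x : HP1, ∃ t : Z × Z, x.1 = (t.1 : R) + (t.2 : R) * w := fun x => by
        obtain ⟨a, ha, l, hl, e⟩ := hfixed x.2.1 (x.2.2 b₀ hb₀)
        exact ⟨(⟨a, ha⟩, ⟨l, hl⟩), e⟩
      choose g hg using hfx
      have ginj : Function.Injective g := fun x y h => Subtype.ext (by rw [hg x, hg y, h])
      have := Nat.card_le_card_of_injective g ginj
      rwa [Nat.card_prod] at this
    -- every element of `P1` fixes `w`
    have hPw : ∀ σ ∈ P1, σ w = w := by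
      intro σ hσ
      obtain ⟨a, ha, l, hl, e⟩ := hfixed (hσH σ hσ.1 w hw) (by
        rw [← RingAut.mul_apply, hPc b₀ hb₀.1 σ hσ.1, RingAut.mul_apply, hwf])
      have sq : σ w * σ w = 0 := by rw [← map_mul, hw2, map_zero]
      rw [e] at sq
      have e2 : (a + l * w) * (a + l * w) = a * a := by
        have : l * w * (l * w) = 0 := by
          rw [mul_assoc, ← mul_assoc w, ← hz hl w, mul_assoc, hw2, mul_zero, mul_zero]
        rw [sqadd ha, this, add_zero]
      rw [e2] at sq
      have ha0 : a = 0 := by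
        by_contra hne0
        obtain ⟨i, hi, hi1⟩ := inv_of ha hne0
        apply hne0
        calc a = i * (a * a) := by rw [← mul_assoc, hi1, one_mul]
          _ = 0 := by rw [sq, mul_zero]
      rw [ha0, zero_add] at e
      have e3 : σ (σ w) = w := by rw [← RingAut.mul_apply, hP2 σ hσ.1, RingAut.one_apply]
      rw [e, map_mul, hσ.2 l hl, e, ← mul_assoc] at e3
      have hll : l * l = 1 := by
        by_contra hne1
        have hne2 : l * l + 1 ≠ 0 := fun h => hne1 ((add_eq_zero_iff' h2).1 h)
        obtain ⟨i, hi, hi1⟩ := inv_of (add_mem (mul_mem hl hl) (one_mem Z)) hne2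
        apply hwZ
        have : w = 0 := by
          calc w = i * (l * l + 1) * w := by rw [hi1, one_mul]
            _ = 0 := by rw [mul_assoc, add_mul, e3, one_mul, h2, mul_zero]
        rw [this]; exact zero_mem Z
      have hl1 : l = 1 := congrArg Subtype.val (frob_inj (a₁ := ⟨l, hl⟩) (a₂ := 1) (Subtype.ext (by
        simp [hll])))
      rw [e, hl1, one_mul]
    obtain ⟨v, hv, hvw⟩ : ∃ v, st v = v ∧ β v w = 1 := by
      by_cases hwc : β w c = 0
      · have hwd : β w d ≠ 0 := fun h => hwZ (inZ_of_coord hw h hwc)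
        obtain ⟨i, hi, hi1⟩ := inv_of (β_mem hw hd.1) hwd
        exact ⟨i * d, by rw [st_zmul hi, hd.1], by rw [β_smul hi, β_comm, hi1]⟩
      · obtain ⟨i, hi, hi1⟩ := inv_of (β_mem hw hc.1) hwc
        exact ⟨i * c, by rw [st_zmul hi, hc.1], by rw [β_smul hi, β_comm, hi1]⟩
    have hμ : ∀ σ ∈ P1, ∃ m ∈ Z, σ v = v + m + m * m * w := by
      intro σ hσ
      have h0 : β (σ v + v) w = 0 := by
        rw [β_add, hvw]
        have : β (σ v) w = 1 := by rw [← hPw σ hσ, ← hσβ, hvw, map_one]
        rw [this, h2]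
      obtain ⟨m, hm, l, hl, e⟩ := hperp (by rw [map_add, hσH σ hσ.1 v hv, hv]) h0
      have ev : σ v = v + m + l * w := by
        rw [add_assoc, ← e, add_comm (σ v) v, ← add_assoc, h2, zero_add]
      refine ⟨m, hm, ?_⟩
      have sq : σ v * σ v = v * v := by rw [← map_mul, hσ.2 _ (sqH hv)]
      have e2 : (v + m + l * w) * (v + m + l * w) = v * v + (m * m + l) := by
        have hvl : v * (l * w) + l * w * v = l := by
          rw [← mul_assoc, ← hz hl v, mul_assoc, mul_assoc l w v, ← mul_add]
          rw [show v * w + w * v = 1 from hvw, mul_one]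
        have hww : l * w * (l * w) = 0 := by
          rw [mul_assoc, ← mul_assoc w, ← hz hl w, mul_assoc, hw2, mul_zero, mul_zero]
        calc (v + m + l * w) * (v + m + l * w)
            = v * v + m * m + (v * (l * w) + l * w * v) + l * w * (l * w) + (v * m + m * v)
              + (m * (l * w) + l * w * m) := by simp only [add_mul, mul_add]; abel
          _ = _ := by rw [hvl, hww, hz hm v, hz hm (l * w), h2, h2]; abel
      rw [ev, e2] at sq
      have hlm : m * m = l := (add_eq_zero_iff' h2).1 (add_left_cancel (sq.trans (add_zero _).symm))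
      rw [ev, hlm]
    have cardP1 : Nat.card P1 ≤ q := by
      let g : P1 → Z := fun σ => ⟨_, (hμ σ.1 σ.2).choose_spec.1⟩
      have ginj : Function.Injective g := by
        intro σ τ h
        have hh : (hμ σ.1 σ.2).choose = (hμ τ.1 τ.2).choose := congrArg Subtype.val h
        have e : (σ : R ≃+* R) v = (τ : R ≃+* R) v := by
          rw [(hμ σ.1 σ.2).choose_spec.2, (hμ τ.1 τ.2).choose_spec.2, hh]
        have h1 : ((σ⁻¹ * τ : P1) : R ≃+* R) = 1 := by
          refine span_fix _ (σ⁻¹ * τ).2 v w hv hw (by rw [hvw]; exact hne) ?_ ?_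
          · show (σ : R ≃+* R).symm ((τ : R ≃+* R) v) = v
            rw [← e, RingEquiv.symm_apply_apply]
          · exact hPw _ (σ⁻¹ * τ).2
        exact inv_mul_eq_one.1 (Subtype.ext h1)
      exact Nat.card_le_card_of_injective g ginj
    calc Nat.card HP1 * Nat.card P1 ≤ (q * q) * q := Nat.mul_le_mul card2 cardP1
      _ = q ^ 3 := by ring
  -- the field automorphisms
  let res : P →* (Z ≃+* Z) :=
    { toFun := fun σ =>
        { toFun := fun z => ⟨(σ : R ≃+* R) z, hσZ _ σ.2 z z.2⟩
          invFun := fun z => ⟨(σ : R ≃+* R).symm z, hσZ _ (P.inv_mem σ.2) z z.2⟩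
          left_inv := fun z => Subtype.ext ((σ : R ≃+* R).symm_apply_apply z)
          right_inv := fun z => Subtype.ext ((σ : R ≃+* R).apply_symm_apply z)
          map_mul' := fun x y => Subtype.ext (map_mul (σ : R ≃+* R) (x : R) y)
          map_add' := fun x y => Subtype.ext (map_add (σ : R ≃+* R) (x : R) y) }
      map_one' := rfl
      map_mul' := fun σ τ => rfl }
  have hker : res.ker = P1.subgroupOf P := by
    ext σ
    rw [MonoidHom.mem_ker, Subgroup.mem_subgroupOf]
    constructor
    · intro h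
      exact ⟨σ.2, fun z hzz => congrArg Subtype.val (RingEquiv.congr_fun h ⟨z, hzz⟩)⟩
    · intro h
      exact RingEquiv.ext fun z => Subtype.ext (h.2 z z.2)
  have hcardP : Nat.card P = Nat.card res.range * Nat.card P1 := by
    rw [← Nat.card_congr (Subgroup.subgroupOfEquivOfLe (show P1 ≤ P from fun σ h => h.1)).toEquiv,
      ← hker, ← Nat.card_congr (QuotientGroup.quotientKerEquivRange res).toEquiv]
    exact Subgroup.card_eq_card_quotient_mul_card_subgroup _
  let Fix := {x : R // st x = x ∧ ∀ σ ∈ P, σ x = x}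
  change Nat.card Fix * Nat.card P ≤ q ^ 3
  rw [hcardP]
  suffices h : Nat.card Fix * Nat.card res.range ≤ Nat.card HP1 by
    calc Nat.card Fix * (Nat.card res.range * Nat.card P1)
        = (Nat.card Fix * Nat.card res.range) * Nat.card P1 := by ring
      _ ≤ Nat.card HP1 * Nat.card P1 := Nat.mul_le_mul_right _ h
      _ ≤ q ^ 3 := hb1
  by_cases hmove : ∃ σ ∈ P, ∃ z ∈ Z, σ z ≠ z
  swap
  · push Not at hmove
    have : Nat.card res.range = 1 := by
      rw [Subgroup.card_eq_one, eq_bot_iff]
      rintro _ ⟨σ, rfl⟩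
      exact RingEquiv.ext fun z => Subtype.ext (hmove _ σ.2 z z.2)
    rw [this, mul_one]
    exact Nat.card_le_card_of_injective (fun x => ⟨x.1, x.2.1, fun σ hσ => x.2.2 σ hσ.1⟩) fun x y h =>
      Subtype.ext (congrArg (fun t : HP1 => t.1) h)
  obtain ⟨σ, hσ, l, hl, hne'⟩ := hmove
  have hF2 : Nat.card Fix * Nat.card Fix ≤ Nat.card HP1 := by
    let g : Fix × Fix → HP1 := fun t => ⟨(t.1 : R) + l * (t.2 : R), by
      rw [map_add, st_zmul hl, t.1.2.1, t.2.2.1], fun τ hτ => by
      rw [map_add, map_mul, hτ.2 l hl, t.1.2.2 τ hτ.1, t.2.2.2 τ hτ.1]⟩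
    have ginj : Function.Injective g := by
      rintro ⟨x, y⟩ ⟨x', y'⟩ h
      have h' : (x : R) + l * y = x' + l * y' := congrArg Subtype.val h
      have h'' := congrArg σ h'
      rw [map_add, map_add, map_mul, map_mul, x.2.2 σ hσ, y.2.2 σ hσ, x'.2.2 σ hσ, y'.2.2 σ hσ] at h''
      have e : (σ l + l) * ((y : R) + y') = 0 := by
        have e1 : ((x : R) + l * y) + (x' + l * y') = 0 := by rw [h', h2]
        have e2 : ((x : R) + σ l * y) + (x' + σ l * y') = 0 := by rw [h'', h2]
        have := congrArg₂ (· + ·) e1 e2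
        simp only [add_zero] at this
        rw [← this, add_mul, mul_add, mul_add]
        calc σ l * y + σ l * y' + (l * y + l * y') =
            σ l * y + σ l * y' + (l * y + l * y') + ((x : R) + x) + ((x' : R) + x') := by
              rw [h2, h2, add_zero, add_zero]
          _ = _ := by abel
      obtain ⟨i, hi, hi1⟩ := inv_of (add_mem (hσZ σ hσ l hl) hl)
        (fun h0 => hne' ((add_eq_zero_iff' h2).1 h0))
      have ey : (y : R) = y' := (add_eq_zero_iff' h2).1 (by
        calc (y : R) + y' = i * (σ l + l) * ((y : R) + y') := by rw [hi1, one_mul]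
          _ = 0 := by rw [mul_assoc, e, mul_zero])
      rw [ey] at h'
      exact Prod.ext (Subtype.ext (add_right_cancel h')) (Subtype.ext ey)
    have := Nat.card_le_card_of_injective g ginj
    rwa [Nat.card_prod] at this
  have hE2 : Nat.card res.range * Nat.card res.range ≤ Nat.card HP1 := by
    haveI : Fact (Nat.Prime 2) := ⟨Nat.prime_two⟩
    have hfd : IsField Z := ⟨⟨0, 1, fun e => hne (congrArg Subtype.val e).symm⟩, mul_comm, fun {a} ha => by
      obtain ⟨w, hw, e⟩ := hfield _ a.2 (fun e => ha (Subtype.ext e))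
      exact ⟨⟨w, hw⟩, Subtype.ext e⟩⟩
    letI := hfd.toField
    haveI : CharP Z 2 := CharTwo.of_one_ne_zero_of_two_eq_zero one_ne_zero
      (one_add_one_eq_two.symm.trans (Subtype.ext (h2 (1 : R))))
    have hp : IsPGroup 2 res.range := by
      have hP : IsPGroup 2 P := fun τ => ⟨1, Subtype.ext (by
        show ((τ : R ≃+* R)) ^ (2 ^ 1) = 1
        rw [pow_one, pow_two]; exact hP2 _ τ.2)⟩
      exact hP.of_surjective res.rangeRestrict res.rangeRestrict_surjective
    haveI : Finite (Z ≃+* Z) := Finite.of_injective _ DFunLike.coe_injective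
    obtain ⟨i, hi⟩ := hp.exists_card_eq
    refine (autGroup_card_sq_le res.range hi).trans ?_
    refine Nat.card_le_card_of_injective (fun z : Z => (⟨(z : R), hfixZ _ z.2, fun τ hτ => hτ.2 _ z.2⟩ : HP1))
      fun x y h => Subtype.ext (congrArg (fun t : HP1 => t.1) h)
  by_contra hlt
  push Not at hlt
  nlinarith [Nat.mul_le_mul hF2 hE2, Nat.mul_lt_mul_of_lt_of_lt hlt hlt]

end CfsgLib.LocalEven.PGV
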