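import Mathlib
import Cfsg.Agent.Lib.LocalEven.PGV.TracedLocal

/-!
A finite noncommutative ring of characteristic 2 with an anti-involution all of whose traces are
central, simple with respect to an elementary abelian group `P` of automorphisms commuting with
the anti-involution, and with at most `2|P||Fix|` elements has exactly 16 elements.
-/

set_option autoImplicit false

namespace CfsgLib.LocalEven.PGV

universe v

variable {R : Type v} [Ring R]

theorem card_bound [Finite R] (h2 : ∀ x : R, x + x = 0) (st : R ≃+ R)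
    (hanti : ∀ x y, st (x * y) = st y * st x) (hinv : ∀ x, st (st x) = x)
    (htc : ∀ x : R, x + st x ∈ Subring.center R)
    (hnc : ∃ x y : R, x * y ≠ y * x)
    (P : Subgroup (R ≃+* R)) (hP2 : ∀ σ ∈ P, σ * σ = 1)
    (hPc : ∀ σ ∈ P, ∀ τ ∈ P, σ * τ = τ * σ)
    (hst : ∀ σ ∈ P, ∀ x, σ (st x) = st (σ x))
    (hsimple : ∀ J : AddSubgroup R, (∀ r, ∀ x ∈ J, r * x ∈ J ∧ x * r ∈ J) →
      (∀ x ∈ J, st x ∈ J) → (∀ σ ∈ P, ∀ x ∈ J, σ x ∈ J) → J = ⊥ ∨ J = ⊤)
    (hcard : Nat.card R ≤ 2 * Nat.card P * Nat.card {x : R // st x = x ∧ ∀ σ ∈ P, σ x = x}) :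
    Nat.card R = 16 := by
  classical
  haveI : Finite (R ≃+* R) := Finite.of_injective _ DFunLike.coe_injective
  set Z := Subring.center R with hZ
  have hz : ∀ {z : R}, z ∈ Z → ∀ x, z * x = x * z := fun hz x =>
    (Subring.mem_center_iff.1 hz x).symm
  have hmk : ∀ {z : R}, (∀ x, z * x = x * z) → z ∈ Z := fun h =>
    Subring.mem_center_iff.2 fun x => (h x).symm
  have hσZ : ∀ (σ : R ≃+* R), ∀ z ∈ Z, σ z ∈ Z := fun σ z hzz => hmk fun x => by
    obtain ⟨y, rfl⟩ := σ.surjective x
    rw [← map_mul, ← map_mul, hz hzz]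
  have hstZ : ∀ z ∈ Z, st z ∈ Z := fun z hzz => hmk fun x => by
    rw [← hinv x, ← hanti, ← hanti, hz hzz]
  have hstadd : ∀ {x : R}, x + st x = 0 → st x = x := fun h => ((add_eq_zero_iff' h2).1 h).symm
  -- the anti-involution fixes the centre
  have hfixZ : ∀ z ∈ Z, st z = z := by
    let J : AddSubgroup R :=
      { carrier := {w | w ∈ Z ∧ ∀ x, w * x ∈ Z}
        add_mem' := fun {a b} ha hb => ⟨add_mem ha.1 hb.1, fun x => by
          rw [add_mul]; exact add_mem (ha.2 x) (hb.2 x)⟩
        zero_mem' := ⟨zero_mem Z, fun x => by rw [zero_mul]; exact zero_mem Z⟩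
        neg_mem' := fun {a} ha => ⟨neg_mem ha.1, fun x => by rw [neg_mul]; exact neg_mem (ha.2 x)⟩ }
    have hJ := hsimple J
      (fun r w hw => by
        have h1 : w * r ∈ J := ⟨hw.2 r, fun x => by rw [mul_assoc]; exact hw.2 _⟩
        exact ⟨by rwa [← hz hw.1 r], h1⟩)
      (fun w hw => ⟨hstZ w hw.1, fun x => by
        rw [← hinv x, ← hanti]
        refine hstZ _ ?_
        rw [← hz hw.1]; exact hw.2 _⟩)
      (fun σ _ w hw => ⟨hσZ σ w hw.1, fun x => by
        obtain ⟨y, rfl⟩ := σ.surjective x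
        rw [← map_mul]; exact hσZ σ _ (hw.2 y)⟩)
    rcases hJ with hJ | hJ
    · intro z hzz
      have : z + st z ∈ J := ⟨add_mem hzz (hstZ z hzz), fun x => by
        obtain ⟨y, rfl⟩ := st.surjective x
        have e : (z + st z) * st y = (z * y + st (z * y)) + z * (y + st y) := by
          rw [hanti, mul_add, add_mul, hz (hstZ z hzz)]
          calc z * st y + st y * st z = z * st y + st y * st z + (z * y + z * y) := by rw [h2, add_zero]
            _ = _ := by abel
        rw [e]
        exact add_mem (htc _) (mul_mem hzz (htc _))⟩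
      rw [hJ, AddSubgroup.mem_bot] at this
      exact hstadd this
    · obtain ⟨x, y, hxy⟩ := hnc
      have h1 : (1 : R) ∈ J := by rw [hJ]; exact AddSubgroup.mem_top _
      have := h1.2 x
      rw [one_mul] at this
      exact absurd (hz this y) hxy
  have h10 : (1 : R) ≠ 0 := fun h => by
    obtain ⟨x, y, hxy⟩ := hnc
    exact hxy (by rw [← mul_one (x * y), h, mul_zero, ← mul_one (y * x), h, mul_zero])
  -- the centre is reduced
  have hsq : ∀ z ∈ Z, z * z = 0 → z = 0 := by
    let N : Finset Z := @Finset.filter Z (fun z => z * z = 0) (Classical.decPred _)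
      (@Finset.univ Z (Fintype.ofFinite Z))
    have hN : ∀ {z : Z}, z ∈ N ↔ z * z = 0 := fun {z} => by simp [N]
    obtain ⟨s, hsN, hsmax⟩ : ∃ s, s ∈ N.powerset.filter (fun s => ∏ z ∈ s, z ≠ 0) ∧
        ∀ t ∈ N.powerset.filter (fun s => ∏ z ∈ s, z ≠ 0), t.card ≤ s.card :=
      Finset.exists_max_image _ _ ⟨∅, by
        simp only [Finset.mem_filter, Finset.mem_powerset, Finset.empty_subset, Finset.prod_empty, true_and]
        exact fun h => h10 (congrArg Subtype.val h)⟩
    rw [Finset.mem_filter, Finset.mem_powerset] at hsN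
    set a := ∏ z ∈ s, z with ha
    have hann : ∀ z ∈ N, z * a = 0 := by
      intro z hzN
      by_cases hzs : z ∈ s
      · rw [ha, ← Finset.mul_prod_erase s (fun z => z) hzs, ← mul_assoc, hN.1 hzN, zero_mul]
      · by_contra hne
        have := hsmax (insert z s) (by
          rw [Finset.mem_filter, Finset.mem_powerset, Finset.prod_insert hzs]
          exact ⟨Finset.insert_subset hzN hsN.1, hne⟩)
        rw [Finset.card_insert_of_notMem hzs] at this
        omega
    let J : AddSubgroup R :=
      { carrier := {x | ∀ z ∈ N, (z : R) * x = 0}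
        add_mem' := fun {x y} hx hy z hzN => by rw [mul_add, hx z hzN, hy z hzN, add_zero]
        zero_mem' := fun z _ => mul_zero _
        neg_mem' := fun {x} hx z hzN => by rw [mul_neg, hx z hzN, neg_zero] }
    have hJ := hsimple J
      (fun r x hx => ⟨fun z hzN => by rw [← mul_assoc, hz z.2, mul_assoc, hx z hzN, mul_zero],
        fun z hzN => by rw [← mul_assoc, hx z hzN, zero_mul]⟩)
      (fun x hx z hzN => by
        have := congrArg st (hx z hzN)
        rw [hanti, hfixZ _ z.2, map_zero] at this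
        rw [hz z.2]; exact this)
      (fun σ _ x hx z hzN => by
        obtain ⟨y, hy⟩ := σ.surjective (z : R)
        have hyZ : y ∈ Z := by
          rw [← σ.symm_apply_apply y, hy]; exact hσZ σ.symm _ z.2
        have hyN : (⟨y, hyZ⟩ : Z) ∈ N := hN.2 (Subtype.ext (σ.injective (by
          show σ (y * y) = σ 0
          rw [map_mul, map_zero, hy]
          exact congrArg Subtype.val (hN.1 hzN))))
        rw [← hy, ← map_mul, hx _ hyN, map_zero])
    intro z hzz hz2
    rcases hJ with hJ | hJ
    · have : (a : R) ∈ J := fun w hw => congrArg Subtype.val (hann w hw)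
      rw [hJ, AddSubgroup.mem_bot] at this
      exact absurd (Subtype.ext this) hsN.2
    · have h1 : (1 : R) ∈ J := by rw [hJ]; exact AddSubgroup.mem_top _
      simpa using h1 ⟨z, hzz⟩ (hN.2 (Subtype.ext hz2))
  have hnil : ∀ z ∈ Z, ∀ n : ℕ, z ^ n = 0 → z = 0 := by
    intro z hzz n
    induction n using Nat.strong_induction_on with
    | _ n ih =>
      intro hn
      rcases n with _ | _ | n
      · rw [pow_zero] at hn; exact absurd hn h10
      · rwa [pow_one] at hn
      · refine ih (n + 1) (by omega) (hsq _ (pow_mem hzz _) ?_)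
        rw [← pow_add, show n + 1 + (n + 1) = (n + 2) + n by ring, pow_add, hn, zero_mul]
  -- idempotents
  have idem : ∀ z ∈ Z, ∃ w ∈ Z, (w * z) * (w * z) = w * z ∧ (w * z) * z = z := by
    intro z hzz
    obtain ⟨a, b, hab, e⟩ : ∃ a b : ℕ, a < b ∧ z ^ a = z ^ b := by
      obtain ⟨a, b, hne, e⟩ := Finite.exists_ne_map_eq_of_infinite (fun n : ℕ => z ^ n)
      rcases lt_or_gt_of_ne hne with h | h
      · exact ⟨a, b, h, e⟩
      · exact ⟨b, a, h, e.symm⟩
    obtain ⟨c, rfl⟩ : ∃ c, b = a + c := ⟨b - a, by omega⟩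
    have hper : ∀ k n, a ≤ n → z ^ (n + k * c) = z ^ n := by
      intro k n hn
      induction k with
      | zero => simp
      | succ k ih =>
        obtain ⟨j, rfl⟩ := Nat.exists_eq_add_of_le hn
        rw [show a + j + (k + 1) * c = (a + c) + (j + k * c) by ring, pow_add, ← e, ← pow_add,
          show a + (j + k * c) = a + j + k * c by ring, ih]
    set n := (a + 1) * c with hn
    have hn1 : 1 ≤ n := Nat.mul_pos (by omega) (by omega)
    have hna : a ≤ n := le_trans (Nat.le_succ a) (Nat.le_mul_of_pos_right _ (by omega))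
    have e1 : z ^ (n - 1) * z = z ^ n := by rw [← pow_succ]; congr 1; omega
    refine ⟨z ^ (n - 1), pow_mem hzz _, ?_, ?_⟩
    · rw [e1, ← pow_add]; exact hper (a + 1) n hna
    · rw [e1]
      set f := z ^ n with hf
      have hff : f * f = f := by rw [hf, ← pow_add]; exact hper (a + 1) n hna
      have hd : f * z - z = 0 := by
        refine hnil _ (sub_mem (mul_mem (pow_mem hzz _) hzz) hzz) n ?_
        have hcm : Commute (f - 1) z := (hz (sub_mem (pow_mem hzz _) (one_mem Z)) z)
        rw [show f * z - z = (f - 1) * z by rw [sub_mul, one_mul], hcm.mul_pow, ← hf]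
        obtain ⟨j, hj⟩ : ∃ j, n = j + 1 := ⟨n - 1, by omega⟩
        rw [hj, pow_succ, mul_assoc, sub_mul, one_mul, hff, sub_self, mul_zero]
      exact sub_eq_zero.1 hd
  -- the traces contain 1
  obtain ⟨u, hu⟩ : ∃ u, u + st u = 1 := by
    let T : R → Prop := fun z => ∃ x, x + st x = z
    have Tmul : ∀ {w z}, w ∈ Z → T z → T (w * z) := fun {w z} hw ⟨x, hx⟩ => ⟨w * x, by
      rw [hanti, hfixZ w hw, ← hz hw (st x), ← mul_add, hx]⟩
    have Tadd : ∀ {y z}, T y → T z → T (y + z) := fun ⟨x, hx⟩ ⟨x', hx'⟩ => ⟨x + x', by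
      rw [map_add, ← hx, ← hx']; abel⟩
    have TZ : ∀ {z}, T z → z ∈ Z := fun ⟨x, hx⟩ => hx ▸ htc x
    haveI := Fintype.ofFinite R
    let cnt : R → ℕ := fun e => (Finset.univ.filter fun z => T z ∧ e * z = z).card
    obtain ⟨e, he, hemax⟩ : ∃ e ∈ Finset.univ.filter (fun e => T e ∧ e * e = e),
        ∀ f ∈ Finset.univ.filter (fun e => T e ∧ e * e = e), cnt f ≤ cnt e :=
      Finset.exists_max_image _ cnt ⟨0, by simp [T]; exact ⟨0, by simp⟩⟩
    simp only [Finset.mem_filter, Finset.mem_univ, true_and] at he hemax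
    have absorb : ∀ z, T z → e * z = z := by
      intro z hzT
      by_contra hne
      obtain ⟨y, hy⟩ : ∃ y, y = z + e * z := ⟨_, rfl⟩
      have hyT : T y := hy ▸ Tadd hzT (Tmul (TZ he.1) hzT)
      have hyne : y ≠ 0 := fun h => hne ((add_eq_zero_iff' h2).1 (hy.symm.trans h)).symm
      have hey : e * y = 0 := by rw [hy, mul_add, ← mul_assoc, he.2, h2]
      obtain ⟨w, hw, hff, hfy⟩ := idem y (TZ hyT)
      have hef : e * (w * y) = 0 := by rw [← mul_assoc, hz (TZ he.1) w, mul_assoc, hey, mul_zero]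
      have hfe : w * y * e = 0 := by rw [← hz (TZ he.1), hef]
      have hf' : T (e + w * y) ∧ (e + w * y) * (e + w * y) = e + w * y :=
        ⟨Tadd he.1 (Tmul hw hyT), by rw [add_mul, mul_add, mul_add, he.2, hef, hfe, hff, add_zero, zero_add]⟩
      refine not_lt.2 (hemax _ hf') (Finset.card_lt_card ?_)
      rw [Finset.ssubset_iff_of_subset]
      · refine ⟨y, ?_, ?_⟩
        · simp only [Finset.mem_filter, Finset.mem_univ, true_and]
          exact ⟨hyT, by rw [add_mul, hey, hfy, zero_add]⟩
        · simp only [Finset.mem_filter, Finset.mem_univ, true_and, hey]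
          exact fun h => hyne h.2.symm
      · intro t ht
        simp only [Finset.mem_filter, Finset.mem_univ, true_and] at ht ⊢
        refine ⟨ht.1, ?_⟩
        rw [add_mul, ht.2]
        conv_lhs => rw [← ht.2, ← mul_assoc, hfe, zero_mul, add_zero]
        exact ht.2
    have hσe : ∀ σ ∈ P, σ e = e := by
      intro σ hσ
      have hT : T (σ e) := by
        obtain ⟨x, hx⟩ := he.1
        exact ⟨σ x, by rw [← hst σ hσ, ← map_add, hx]⟩
      have h1 := absorb _ hT
      obtain ⟨x, hx⟩ := he.1
      have hT' : T (σ.symm e) := ⟨σ.symm x, by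
        rw [show (σ.symm : R ≃+* R) = σ⁻¹ from rfl, ← hst _ (P.inv_mem hσ), ← map_add, hx]⟩
      have h3 := congrArg σ (absorb _ hT')
      rw [map_mul, σ.apply_symm_apply] at h3
      rw [← h1, hz (TZ he.1)]
      exact h3
    let J : AddSubgroup R :=
      { carrier := {x | e * x = 0}
        add_mem' := fun {x y} hx hy => by show e * (x + y) = 0; rw [mul_add, hx, hy, add_zero]
        zero_mem' := mul_zero _
        neg_mem' := fun {x} hx => by show e * (-x) = 0; rw [mul_neg, hx, neg_zero] }
    have hJ := hsimple J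
      (fun r x hx => ⟨by
        show e * (r * x) = 0
        rw [← mul_assoc, hz (TZ he.1), mul_assoc, hx, mul_zero],
        by show e * (x * r) = 0; rw [← mul_assoc, hx, zero_mul]⟩)
      (fun x hx => by
        show e * st x = 0
        have := congrArg st hx
        rw [hanti, hfixZ _ (TZ he.1), map_zero] at this
        rw [hz (TZ he.1)]; exact this)
      (fun σ hσ x hx => by
        show e * σ x = 0
        rw [← hσe σ hσ, ← map_mul, hx, map_zero])
    rcases hJ with hJ | hJ
    · have : 1 + e ∈ J := by show e * (1 + e) = 0; rw [mul_add, mul_one, he.2, h2]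
      rw [hJ, AddSubgroup.mem_bot] at this
      rw [(add_eq_zero_iff' h2).1 this]
      exact he.1
    · have h1 : e * 1 = 0 := show (1 : R) ∈ J by rw [hJ]; exact AddSubgroup.mem_top _
      rw [mul_one] at h1
      have hst1 : ∀ x, st x = x := fun x => hstadd (by
        rw [← absorb _ ⟨x, rfl⟩, h1, zero_mul])
      obtain ⟨x, y, hxy⟩ := hnc
      exact absurd (by simpa only [hst1] using hanti x y) hxy
  -- an atom
  haveI := Fintype.ofFinite R
  let sz : R → ℕ := fun e => (Finset.univ.filter fun x => e * x = x).card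
  obtain ⟨e, he, hemin⟩ : ∃ e ∈ Finset.univ.filter (fun e => e ∈ Z ∧ e * e = e ∧ e ≠ 0),
      ∀ f ∈ Finset.univ.filter (fun e => e ∈ Z ∧ e * e = e ∧ e ≠ 0), sz e ≤ sz f :=
    Finset.exists_min_image _ sz ⟨1, by simp [h10]⟩
  simp only [Finset.mem_filter, Finset.mem_univ, true_and] at he hemin
  obtain ⟨heZ, hee, he0⟩ := he
  have atom : ∀ f ∈ Z, f * f = f → e * f = 0 ∨ e * f = e := by
    intro f hf hff
    by_contra hne
    push Not at hne
    have hg : e * f * (e * f) = e * f := by
      rw [mul_assoc, ← mul_assoc f, ← hz heZ f, mul_assoc e f, hff, ← mul_assoc, hee]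
    refine not_lt.2 (hemin _ ⟨mul_mem heZ hf, hg, hne.1⟩) (Finset.card_lt_card ?_)
    rw [Finset.ssubset_iff_of_subset]
    · refine ⟨e, ?_, ?_⟩
      · simp only [Finset.mem_filter, Finset.mem_univ, true_and]; exact hee
      · simp only [Finset.mem_filter, Finset.mem_univ, true_and]
        intro h
        rw [mul_assoc, ← hz heZ f, ← mul_assoc, hee] at h
        exact hne.2 h
    · intro t ht
      simp only [Finset.mem_filter, Finset.mem_univ, true_and] at ht ⊢
      conv_lhs => rw [← ht, ← mul_assoc, ← mul_assoc, hee]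
      exact ht
  -- the orbit of the atom
  let Pact : P → R → R := fun σ x => (σ : R ≃+* R) x
  let O : Finset R := (Set.toFinite (P : Set (R ≃+* R))).toFinset.image fun σ => σ e
  have hO : ∀ {f}, f ∈ O ↔ ∃ σ ∈ P, σ e = f := fun {f} => by simp [O]
  have hOσ : ∀ σ ∈ P, ∀ f ∈ O, σ f ∈ O := by
    intro σ hσ f hf
    obtain ⟨τ, hτ, rfl⟩ := hO.1 hf
    exact hO.2 ⟨σ * τ, P.mul_mem hσ hτ, rfl⟩
  have ortho : ∀ f ∈ O, ∀ g ∈ O, f ≠ g → f * g = 0 := by
    intro f hf g hg hfg
    obtain ⟨σ, hσ, rfl⟩ := hO.1 hf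
    obtain ⟨τ, hτ, rfl⟩ := hO.1 hg
    have h1 := atom (σ.symm (τ e)) (hσZ _ _ (hσZ _ _ heZ)) (by rw [← map_mul, ← map_mul, hee])
    have h3 := atom (τ.symm (σ e)) (hσZ _ _ (hσZ _ _ heZ)) (by rw [← map_mul, ← map_mul, hee])
    rcases h1 with h1 | h1
    · simpa using congrArg σ h1
    · rcases h3 with h3 | h3
      · have := congrArg τ h3
        rw [map_mul, τ.apply_symm_apply, map_zero, hz (hσZ τ e heZ)] at this
        exact this
      · have a1 := congrArg σ h1
        have a2 := congrArg τ h3
        rw [map_mul, σ.apply_symm_apply] at a1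
        rw [map_mul, τ.apply_symm_apply, hz (hσZ τ e heZ), a1] at a2
        exact absurd a2 hfg
  have hOidem : ∀ f ∈ O, f ∈ Z ∧ f * f = f := fun f hf => by
    obtain ⟨σ, hσ, rfl⟩ := hO.1 hf
    exact ⟨hσZ σ e heZ, by rw [← map_mul, hee]⟩
  have hsum : ∑ f ∈ O, f = 1 := by
    set s := ∑ f ∈ O, f with hs
    have hsf : ∀ f ∈ O, s * f = f := by
      intro f hf
      rw [hs, Finset.sum_mul, Finset.sum_eq_single f (fun g hg hne => ortho g hg f hf hne)
        (fun h => absurd hf h), (hOidem f hf).2]
    have hss : s * s = s := by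
      nth_rw 2 [hs]
      rw [Finset.mul_sum, Finset.sum_congr rfl hsf]
    have hsZ : s ∈ Z := sum_mem fun f hf => (hOidem f hf).1
    have hsσ : ∀ σ ∈ P, σ s = s := fun σ hσ => by
      have himg : O.image σ = O := Finset.eq_of_subset_of_card_le
        (fun x hx => by
          obtain ⟨f, hf, rfl⟩ := Finset.mem_image.1 hx
          exact hOσ σ hσ f hf)
        (le_of_eq (Finset.card_image_of_injective _ σ.injective).symm)
      rw [hs, map_sum]
      conv_rhs => rw [← himg]
      exact (Finset.sum_image (f := fun x : R => x) fun x _ y _ h => σ.injective h).symm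
    let J : AddSubgroup R :=
      { carrier := {x | s * x = 0}
        add_mem' := fun {x y} hx hy => by show s * (x + y) = 0; rw [mul_add, hx, hy, add_zero]
        zero_mem' := mul_zero _
        neg_mem' := fun {x} hx => by show s * (-x) = 0; rw [mul_neg, hx, neg_zero] }
    have hJ := hsimple J
      (fun r x hx => ⟨by
        show s * (r * x) = 0
        rw [← mul_assoc, hz hsZ, mul_assoc, hx, mul_zero],
        by show s * (x * r) = 0; rw [← mul_assoc, hx, zero_mul]⟩)
      (fun x hx => by
        show s * st x = 0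
        have := congrArg st hx
        rw [hanti, hfixZ _ hsZ, map_zero] at this
        rw [hz hsZ]; exact this)
      (fun σ hσ x hx => by
        show s * σ x = 0
        rw [← hsσ σ hσ, ← map_mul, hx, map_zero])
    rcases hJ with hJ | hJ
    · have : 1 + s ∈ J := by show s * (1 + s) = 0; rw [mul_add, mul_one, hss, h2]
      rw [hJ, AddSubgroup.mem_bot] at this
      exact ((add_eq_zero_iff' h2).1 this).symm
    · have h1 : s * 1 = 0 := show (1 : R) ∈ J by rw [hJ]; exact AddSubgroup.mem_top _
      rw [mul_one] at h1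
      have := hsf e (hO.2 ⟨1, P.one_mem, rfl⟩)
      rw [h1, zero_mul] at this
      exact absurd this.symm he0
  -- the corner
  let hid : IsIdempotentElem e := hee
  haveI : Finite hid.Corner := Subtype.finite
  let mk : R → hid.Corner := fun r => ⟨e * r, (Subsemigroup.mem_corner_iff hid).2
    ⟨by rw [← mul_assoc, hee], by rw [← hz heZ (e * r), ← mul_assoc, hee]⟩⟩
  have hel : ∀ x : hid.Corner, e * x.1 = x.1 := fun x => ((Subsemigroup.mem_corner_iff hid).1 x.2).1
  have mk_mul : ∀ a b, mk (a * b) = mk a * mk b := fun a b => Subtype.ext (by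
    show e * (a * b) = e * a * (e * b)
    rw [mul_assoc, ← mul_assoc a, ← hz heZ a, mul_assoc e a b, ← mul_assoc e e, hee])
  have mk_add : ∀ a b, mk (a + b) = mk a + mk b := fun a b => Subtype.ext (mul_add _ _ _)
  have mk_val : ∀ x : hid.Corner, mk x.1 = x := fun x => Subtype.ext (hel x)
  have h2C : ∀ x : hid.Corner, x + x = 0 := fun x => Subtype.ext (h2 _)
  have hcenC : ∀ x : hid.Corner, x ∈ Subring.center hid.Corner ↔ x.1 ∈ Z := by
    intro x
    constructor
    · intro hx
      refine hmk fun r => ?_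
      have h : mk r * x = x * mk r := Subring.mem_center_iff.1 hx (mk r)
      have h' : e * r * x.1 = x.1 * (e * r) := congrArg Subtype.val h
      calc x.1 * r = x.1 * (e * r) := by
            rw [← mul_assoc, ← hz heZ, hel]
        _ = r * x.1 := by rw [← h', hz heZ, mul_assoc, hel]
    · intro hx
      exact Subring.mem_center_iff.2 fun y => Subtype.ext (hz hx y.1).symm
  let stC : hid.Corner ≃+ hid.Corner :=
    { toFun := fun x => mk (st x.1)
      invFun := fun x => mk (st x.1)
      left_inv := fun x => Subtype.ext (by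
        show e * st (e * st x.1) = x.1
        rw [hanti, hinv, hfixZ e heZ, ← mul_assoc, hel, ← hz heZ, hel])
      right_inv := fun x => Subtype.ext (by
        show e * st (e * st x.1) = x.1
        rw [hanti, hinv, hfixZ e heZ, ← mul_assoc, hel, ← hz heZ, hel])
      map_add' := fun x y => by
        show mk (st (x.1 + y.1)) = mk (st x.1) + mk (st y.1)
        rw [map_add, mk_add] }
  have stC_val : ∀ x : hid.Corner, (stC x).1 = st x.1 := fun x => by
    show e * st x.1 = st x.1
    conv_rhs => rw [← hel x, hanti, hfixZ e heZ, ← hz heZ]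
  have hfieldC : ∀ z ∈ Subring.center hid.Corner, z ≠ 0 →
      ∃ w ∈ Subring.center hid.Corner, z * w = 1 := by
    intro z hzC hz0
    have hzZ := (hcenC z).1 hzC
    obtain ⟨w, hw, hff, hfz⟩ := idem z.1 hzZ
    rcases atom _ (mul_mem hw hzZ) hff with h | h
    · exact absurd (Subtype.ext (by
        show z.1 = 0
        rw [← hel z, ← hfz, ← mul_assoc, h, zero_mul])) hz0
    · refine ⟨mk w, (hcenC _).2 (mul_mem heZ hw), Subtype.ext ?_⟩
      show z.1 * (e * w) = e
      calc z.1 * (e * w) = e * (w * z.1) := by rw [hz hzZ, mul_assoc]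
        _ = e := h
  let P0 : Subgroup (R ≃+* R) :=
    { carrier := {σ | σ ∈ P ∧ σ e = e}
      mul_mem' := fun {σ τ} hσ hτ => ⟨P.mul_mem hσ.1 hτ.1, by rw [RingAut.mul_apply, hτ.2, hσ.2]⟩
      one_mem' := ⟨P.one_mem, rfl⟩
      inv_mem' := fun {σ} hσ => ⟨P.inv_mem hσ.1, by
        conv_lhs => rw [← hσ.2]
        exact σ.symm_apply_apply e⟩ }
  let res : P0 →* (hid.Corner ≃+* hid.Corner) :=
    { toFun := fun σ =>
        { toFun := fun x => mk ((σ : R ≃+* R) x.1)
          invFun := fun x => mk (((σ⁻¹ : P0) : R ≃+* R) x.1)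
          left_inv := fun x => Subtype.ext (by
            show e * (σ : R ≃+* R).symm (e * (σ : R ≃+* R) x.1) = x.1
            rw [map_mul, (σ : R ≃+* R).symm_apply_apply, show (σ : R ≃+* R).symm e = e from (σ⁻¹).2.2,
              ← mul_assoc, hee, hel])
          right_inv := fun x => Subtype.ext (by
            show e * (σ : R ≃+* R) (e * (σ : R ≃+* R).symm x.1) = x.1
            rw [map_mul, (σ : R ≃+* R).apply_symm_apply, σ.2.2, ← mul_assoc, hee, hel])
          map_mul' := fun x y => by
            show mk ((σ : R ≃+* R) (x.1 * y.1)) = _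
            rw [map_mul, mk_mul]
          map_add' := fun x y => by
            show mk ((σ : R ≃+* R) (x.1 + y.1)) = _
            rw [map_add, mk_add] }
      map_one' := RingEquiv.ext fun x => mk_val x
      map_mul' := fun σ τ => RingEquiv.ext fun x => Subtype.ext (by
        show e * (σ : R ≃+* R) ((τ : R ≃+* R) x.1) = e * (σ : R ≃+* R) (e * (τ : R ≃+* R) x.1)
        rw [map_mul, σ.2.2, ← mul_assoc, hee]) }
  have res_val : ∀ (σ : P0) (x : hid.Corner), (res σ x).1 = (σ : R ≃+* R) x.1 := fun σ x => by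
    show e * (σ : R ≃+* R) x.1 = _
    conv_rhs => rw [← hel x, map_mul, σ.2.2]
  have resinj : Function.Injective res := by
    rw [← MonoidHom.ker_eq_bot_iff, eq_bot_iff]
    intro σ hσ
    rw [MonoidHom.mem_ker] at hσ
    refine Subgroup.mem_bot.2 (Subtype.ext (RingEquiv.ext fun r => ?_))
    have h1 : ∀ x, (σ : R ≃+* R) (e * x) = e * x := fun x => by
      have := congrArg Subtype.val (RingEquiv.congr_fun hσ (mk x))
      rw [res_val] at this
      exact this
    have h3 : ∀ f ∈ O, (σ : R ≃+* R) (f * r) = f * r := by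
      intro f hf
      obtain ⟨τ, hτ, rfl⟩ := hO.1 hf
      obtain ⟨x, rfl⟩ := τ.surjective r
      rw [← map_mul, ← RingAut.mul_apply, hPc _ σ.2.1 τ hτ, RingAut.mul_apply, h1]
    show (σ : R ≃+* R) r = r
    conv_lhs => rw [← one_mul r, ← hsum, Finset.sum_mul, map_sum, Finset.sum_congr rfl h3,
      ← Finset.sum_mul, hsum, one_mul]
  obtain ⟨hq4, hloc⟩ := local_bound h2C stC
    (fun x y => by
      show mk (st (x.1 * y.1)) = mk (st y.1) * mk (st x.1)
      rw [hanti, mk_mul])
    (fun x => stC.left_inv x)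
    (fun x => (hcenC _).2 (by
      show x.1 + (stC x).1 ∈ Z
      rw [stC_val]; exact htc _))
    (fun z hzC => Subtype.ext (by rw [stC_val, hfixZ _ ((hcenC z).1 hzC)]))
    hfieldC (fun h => he0 (congrArg Subtype.val h)) (mk u)
    (by
      apply Subtype.ext
      show e * u + (stC (mk u)).1 = e
      rw [stC_val]
      show e * u + st (e * u) = e
      rw [hanti, hfixZ e heZ, ← hz heZ (st u), ← mul_add, hu, mul_one])
    (fun J hJi hJc => by
      let J' : AddSubgroup R :=
        { carrier := {r | ∀ σ ∈ P, mk (σ r) ∈ J ∧ mk (σ (st r)) ∈ J}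
          add_mem' := fun {a b} ha hb σ hσ => by
            rw [map_add st, map_add σ, map_add σ, mk_add, mk_add]
            exact ⟨add_mem (ha σ hσ).1 (hb σ hσ).1, add_mem (ha σ hσ).2 (hb σ hσ).2⟩
          zero_mem' := fun σ _ => by
            have : mk 0 = 0 := Subtype.ext (mul_zero e)
            simp only [map_zero, this, zero_mem, and_self]
          neg_mem' := fun {a} ha => by
            rw [show -a = a from neg_eq_of_add_eq_zero_left (h2 a)]
            exact ha }
      have hJ' := hsimple J'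
        (fun r x hx => ⟨fun σ hσ => by
            rw [hanti, map_mul, map_mul, mk_mul, mk_mul]
            exact ⟨(hJi _ _ (hx σ hσ).1).1, (hJi _ _ (hx σ hσ).2).2⟩,
          fun σ hσ => by
            rw [hanti, map_mul, map_mul, mk_mul, mk_mul]
            exact ⟨(hJi _ _ (hx σ hσ).1).2, (hJi _ _ (hx σ hσ).2).1⟩⟩)
        (fun x hx σ hσ => ⟨(hx σ hσ).2, by rw [hinv]; exact (hx σ hσ).1⟩)
        (fun τ hτ x hx σ hσ => by
          rw [← hst τ hτ]
          exact hx (σ * τ) (P.mul_mem hσ hτ))
      have hcomm : ∀ x y, x * y - y * x ∈ J' := fun x y σ hσ => by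
        have e1 : ∀ a b : R, mk (a * b - b * a) = mk a * mk b - mk b * mk a := fun a b => by
          rw [← mk_mul, ← mk_mul, eq_sub_iff_add_eq, ← mk_add, sub_add_cancel]
        constructor
        · rw [map_sub, map_mul, map_mul, e1]; exact hJc _ _
        · rw [map_sub, hanti, hanti, map_sub, map_mul, map_mul, e1]; exact hJc _ _
      rcases hJ' with hJ' | hJ'
      · obtain ⟨x, y, hxy⟩ := hnc
        have := hcomm x y
        rw [hJ', AddSubgroup.mem_bot, sub_eq_zero] at this
        exact absurd this hxy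
      · have h1 : (1 : R) ∈ J' := by rw [hJ']; exact AddSubgroup.mem_top _
        have h3 := (h1 1 P.one_mem).1
        rwa [show mk ((1 : R ≃+* R) 1) = 1 from Subtype.ext (mul_one e)] at h3)
    res.range
    (by rintro _ ⟨σ, rfl⟩; rw [← map_mul, show σ * σ = 1 from Subtype.ext (hP2 _ σ.2.1), map_one])
    (by
      rintro _ ⟨σ, rfl⟩ _ ⟨τ, rfl⟩
      rw [← map_mul, ← map_mul, show σ * τ = τ * σ from Subtype.ext (hPc _ σ.2.1 _ τ.2.1)])
    (by
      rintro _ ⟨σ, rfl⟩ x
      apply Subtype.ext
      rw [res_val, stC_val, stC_val, res_val, hst _ σ.2.1])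
  set q := Nat.card (Subring.center hid.Corner) with hq
  have hq2 : 2 ≤ q := by
    rw [hq, Nat.succ_le_iff, Finite.one_lt_card_iff_nontrivial]
    exact ⟨⟨0, 1, fun h => he0 (congrArg (fun t => t.1.1) h).symm⟩⟩
  -- counting
  have hrep : ∀ f : {f // f ∈ O}, ∃ σ ∈ P, σ e = f.1 := fun f => hO.1 f.2
  choose rep hrepP hrepe using hrep
  have cardR : Nat.card R = Nat.card hid.Corner ^ O.card := by
    let Φ : R → ({f // f ∈ O} → hid.Corner) := fun r f => mk ((rep f).symm r)
    have hΦ : ∀ r f, rep f (Φ r f).1 = f.1 * r := fun r f => by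
      show rep f (e * (rep f).symm r) = _
      rw [map_mul, (rep f).apply_symm_apply, hrepe]
    have bij : Function.Bijective Φ := by
      constructor
      · intro r r' h
        rw [← one_mul r, ← one_mul r', ← hsum, Finset.sum_mul, Finset.sum_mul]
        refine Finset.sum_congr rfl fun f hf => ?_
        rw [← hΦ r ⟨f, hf⟩, ← hΦ r' ⟨f, hf⟩, h]
      · intro x
        refine ⟨∑ f, rep f (x f).1, funext fun g => Subtype.ext ((rep g).injective ?_)⟩
        rw [hΦ, Finset.mul_sum, Finset.sum_eq_single g]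
        · rw [← hrepe g, ← map_mul, hel]
        · intro f _ hfg
          rw [← hel (x f), map_mul, hrepe, ← mul_assoc,
            ortho g.1 g.2 f.1 f.2 (fun h => hfg (Subtype.ext h.symm)), zero_mul]
        · exact fun h => absurd (Finset.mem_univ g) h
    rw [Nat.card_congr (Equiv.ofBijective Φ bij), Nat.card_fun, Nat.card_eq_finsetCard]
  have cardP : Nat.card P = O.card * Nat.card P0 := by
    let Φ : P → {f // f ∈ O} × P0 := fun σ =>
      let f : {f // f ∈ O} := ⟨σ.1 e, hO.2 ⟨σ.1, σ.2, rfl⟩⟩
      (f, ⟨(rep f)⁻¹ * σ.1, P.mul_mem (P.inv_mem (hrepP f)) σ.2, by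
        show (rep f).symm (σ.1 e) = e
        rw [RingEquiv.symm_apply_eq, hrepe]⟩)
    have bij : Function.Bijective Φ := by
      constructor
      · intro σ τ h
        have hf := congrArg Prod.fst h
        have hs := congrArg (fun t => (t.2 : R ≃+* R)) h
        simp only [Φ] at hs hf
        rw [hf] at hs
        exact Subtype.ext (mul_left_cancel hs)
      · rintro ⟨f, τ⟩
        refine ⟨⟨rep f * τ.1, P.mul_mem (hrepP f) τ.2.1⟩, ?_⟩
        have hf : (⟨(rep f * τ.1) e, hO.2 ⟨_, P.mul_mem (hrepP f) τ.2.1, rfl⟩⟩ : {f // f ∈ O}) = f :=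
          Subtype.ext (by show (rep f) (τ.1 e) = f.1; rw [τ.2.2, hrepe])
        refine Prod.ext hf (Subtype.ext ?_)
        have key : ∀ g : {f // f ∈ O}, g = f → (rep g)⁻¹ * (rep f * τ.1) = τ.1 := by
          rintro g rfl; rw [inv_mul_cancel_left]
        exact key _ hf
    rw [Nat.card_congr (Equiv.ofBijective Φ bij), Nat.card_prod, Nat.card_eq_finsetCard]
  set Fix := Nat.card {x : R // st x = x ∧ ∀ σ ∈ P, σ x = x}
  have hFix : Fix * Nat.card P0 ≤ q ^ 3 := by
    refine le_trans ?_ hloc
    rw [Nat.card_congr (MonoidHom.ofInjective resinj).toEquiv]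
    refine Nat.mul_le_mul_right _ (Nat.card_le_card_of_injective
      (fun x : {x : R // st x = x ∧ ∀ σ ∈ P, σ x = x} =>
        (⟨mk x.1, Subtype.ext (by
            rw [stC_val]
            show st (e * x.1) = e * x.1
            rw [hanti, hfixZ e heZ, x.2.1, hz heZ]),
          by
            rintro _ ⟨σ, rfl⟩
            apply Subtype.ext
            rw [res_val]
            show (σ : R ≃+* R) (e * x.1) = e * x.1
            rw [map_mul, σ.2.2, x.2.2 _ σ.2.1]⟩ :
          {y : hid.Corner // stC y = y ∧ ∀ τ ∈ res.range, τ y = y})) ?_)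
    intro x y h
    have h' : e * x.1 = e * y.1 := congrArg (fun t => t.1.1) h
    apply Subtype.ext
    rw [← one_mul x.1, ← one_mul y.1, ← hsum, Finset.sum_mul, Finset.sum_mul]
    refine Finset.sum_congr rfl fun f hf => ?_
    obtain ⟨σ, hσ, rfl⟩ := hO.1 hf
    have := congrArg σ h'
    rwa [map_mul, map_mul, x.2.2 σ hσ, y.2.2 σ hσ] at this
  set m := O.card
  have hm : 1 ≤ m := Finset.card_pos.2 ⟨e, hO.2 ⟨1, P.one_mem, rfl⟩⟩
  rw [cardR, hq4, ← pow_mul] at hcard ⊢
  rw [cardP] at hcard
  have hbound : q ^ (4 * m) ≤ 2 * m * q ^ 3 :=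
    hcard.trans (le_of_eq_of_le (by ring) (Nat.mul_le_mul_left (2 * m) hFix))
  rcases hm.eq_or_lt with hm1 | hm1
  · rw [← hm1, mul_one, mul_one] at hbound
    rw [← hm1]
    have : q = 2 := by
      by_contra hne
      have h3 : 3 * q ^ 3 ≤ q ^ 4 := by
        rw [pow_succ q 3, mul_comm (q ^ 3)]; exact Nat.mul_le_mul_right _ (by omega)
      have : 0 < q ^ 3 := by positivity
      omega
    rw [this]; rfl
  · exfalso
    have h1 : 2 ^ (4 * m - 3) ≤ q ^ (4 * m - 3) := Nat.pow_le_pow_left hq2 _
    have h3 : q ^ (4 * m) = q ^ (4 * m - 3) * q ^ 3 := by rw [← pow_add]; congr 1; omega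
    rw [h3] at hbound
    have h4 := Nat.le_of_mul_le_mul_right hbound (by positivity)
    have h5 : 4 * m - 3 < 2 ^ (4 * m - 3) := Nat.lt_two_pow_self
    omega

end CfsgLib.LocalEven.PGV
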