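import Mathlib
import Cfsg.Agent.Lib.LocalEven.PGV.Passage
import Cfsg.Agent.Lib.LocalEven.PGV.TracedGlobal

/-!
The irreducible case of the P(G,V)-theorem for `p = 2` under the relation
`k (a k a⁻¹) ∈ C([W, a])`.
-/

set_option autoImplicit false

namespace CfsgLib.LocalEven.PGV

open scoped commutatorElement

universe v

variable {W : Type v} [AddCommGroup W] {A K : Subgroup (Γ W)}

theorem two_eq_zero' (hp : ∀ w : W, 2 • w = 0) (w : W) : w + w = 0 := by rw [← two_nsmul]; exact hp w

theorem inv_eq_self (hA : Cfsg.IsElementaryAbelian 2 A) {a : Γ W} (ha : a ∈ A) : a⁻¹ = a := by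
  rw [inv_eq_iff_mul_eq_one, ← pow_two]; exact hA.2 a ha

/-- A perfect group is fixed pointwise once all its commutators are. -/
theorem Setup.fixed_of_commutators {p : ℕ} (h : Setup p A K) {d : Γ W} {w : W}
    (H : ∀ x ∈ cj d K, ∀ y ∈ cj d K, ⁅x, y⁆ • w = w) : ∀ x ∈ cj d K, x • w = w := by
  have hperf : ⁅cj d K, cj d K⁆ = cj d K := by
    rw [cj, ← Subgroup.map_commutator, h.perfect]
  have hle : ⁅cj d K, cj d K⁆ ≤ MulAction.stabilizer (Γ W) w := Subgroup.commutator_le.2 H
  intro x hx
  rw [← hperf] at hx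
  exact hle hx

theorem comm_eq {x y u v : Γ W} (cux : Commute u x) (cuy : Commute u y) (cuv : Commute u v)
    (cvx : Commute v x) (cvy : Commute v y) : ⁅x * u, y * v⁆ = ⁅x, y⁆ := by
  rw [commutatorElement_def, commutatorElement_def, mul_inv_rev, mul_inv_rev]
  calc x * u * (y * v) * (u⁻¹ * x⁻¹) * (v⁻¹ * y⁻¹)
      = x * (u * y) * v * u⁻¹ * x⁻¹ * v⁻¹ * y⁻¹ := by group
    _ = x * y * ((u * v) * u⁻¹) * x⁻¹ * v⁻¹ * y⁻¹ := by rw [cuy.eq]; group
    _ = x * y * (v * x⁻¹) * v⁻¹ * y⁻¹ := by rw [cuv.eq]; group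
    _ = x * y * x⁻¹ * y⁻¹ := by rw [(cvx.inv_right).eq]; group

/-- More than two conjugates are impossible. -/
theorem false_of_many [Finite W] (hp : ∀ w : W, 2 • w = 0) (h : Setup 2 A K) (hrel : Rel A K)
    (hfix : fix (Lsup A K) = ⊥) {a b : Γ W} (ha : a ∈ A) (hb : b ∈ A)
    (hab : cj b K ≠ cj a K) (hbK : cj b K ≠ K) (haK : cj a K ≠ K) (hW : Nontrivial W) : False := by
  haveI : Fact (Nat.Prime 2) := ⟨Nat.prime_two⟩
  have hcc : ∀ {c d : Γ W}, c ∈ A → d ∈ A → cj (c * d) K = cj (d * c) K := fun hc hd => by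
    rw [(commute_of_mem h.el hc hd).eq]
  have hshift : ∀ {c d e : Γ W}, cj (c * d) K = cj (c * e) K → cj d K = cj e K := fun {c d e} q => by
    have := congrArg (cj c⁻¹) q
    rwa [← cj_mul, ← cj_mul, inv_mul_cancel_left, inv_mul_cancel_left] at this
  have hsq : ∀ {c : Γ W}, c ∈ A → c * c = 1 := fun hc => by rw [← pow_two]; exact h.el.2 _ hc
  have hcancel : ∀ {f g : Γ W}, f ∈ A → g ∈ A → cj (f * g) K = cj g K → cj f K = K := fun {f g} hf hg q => by
    rw [hcc hf hg] at q
    nth_rw 2 [← mul_one g] at q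
    exact (hshift q).trans cj_one
  have hcjmem : ∀ {c e k : Γ W}, e ∈ A → c ∈ A → k ∈ cj c K → e * k * e⁻¹ ∈ cj (e * c) K :=
    fun {c e k} _ _ hk => by rw [cj_mul]; exact conj_mem_cj hk
  -- vectors fixed outside a pair
  have pair : ∀ {c e f : Γ W}, c ∈ A → e ∈ A → f ∈ A → cj e K ≠ K → cj f K ≠ K → cj f K ≠ cj e K →
      ∀ w : W, (∀ d ∈ A, cj d K ≠ cj c K → cj d K ≠ cj (c * e) K → ∀ k ∈ cj d K, k • w = w) →
      ∀ k ∈ cj c K, k • w = w := by
    intro c e f hc he hf heK hfK hfe w hw k hk
    have hfc : cj (f * c) K ≠ cj c K := fun q => hfK (hcancel hf hc q)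
    have hfce : cj (f * c) K ≠ cj (c * e) K := fun q => hfe (by rw [hcc hf hc] at q; exact hshift q)
    have hk' : f * k * f⁻¹ ∈ cj (f * c) K := hcjmem hf hc hk
    have hc1 : Commute k (f * k * f⁻¹) := h.commute_members hc (A.mul_mem hf hc) hfc.symm hk hk'
    have h1 : (f * k * f⁻¹) • w = w := hw _ (A.mul_mem hf hc) hfc hfce _ hk'
    have h2 := hrel.of_mem h.el hf hfK hc hk _ (com_mem f w)
    have e1 : f • (k • w - w) = k • w - w := by
      have e0 : k * (f * k * f⁻¹) * f = f * (k * (f * k * f⁻¹)) := by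
        calc k * (f * k * f⁻¹) * f = k * f * k := by group
          _ = (f * f) * k * f⁻¹ * k := by rw [hsq hf, inv_eq_self h.el hf, one_mul]
          _ = f * ((f * k * f⁻¹) * k) := by group
          _ = _ := by rw [hc1.eq]
      rw [smul_sub, smul_smul, e0, mul_smul f, mul_smul k, h1] at h2
      rw [smul_sub, sub_eq_sub_iff_sub_eq_sub]
      exact h2
    have hz : ∀ d ∈ A, cj d K ≠ cj c K → cj d K ≠ cj (c * e) K → ∀ l ∈ cj d K,
        l • (k • w - w) = k • w - w := by
      intro d hd h1' h2' l hl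
      rw [smul_sub, smul_smul, (h.commute_members hd hc h1' hl hk).eq, mul_smul, hw d hd h1' h2' l hl]
    have hzero : k • w - w = 0 := by
      rw [← AddSubgroup.mem_bot, ← hfix]
      refine mem_fix_Lsup.2 fun d hd l hl => ?_
      by_cases hin : cj d K = cj c K ∨ cj d K = cj (c * e) K
      · have hd' : cj (f * d) K ≠ cj c K ∧ cj (f * d) K ≠ cj (c * e) K := by
          rcases hin with q | q
          · rw [cj_mul, q, ← cj_mul]; exact ⟨hfc, hfce⟩
          · rw [cj_mul, q, ← cj_mul]
            refine ⟨fun q' => hfe ?_, fun q' => hfK (hcancel hf (A.mul_mem hc he) q')⟩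
            have hfce' : cj (f * (c * e)) K = cj ((f * e) * c) K := by
              rw [(commute_of_mem h.el hc he).eq, mul_assoc]
            rw [hfce'] at q'
            have h3 := congrArg (cj f) (hcancel (A.mul_mem hf he) hc q')
            rw [← cj_mul, ← mul_assoc, hsq hf, one_mul] at h3
            exact h3.symm
        have hl' : f * l * f⁻¹ ∈ cj (f * d) K := hcjmem hf hd hl
        have := hz _ (A.mul_mem hf hd) hd'.1 hd'.2 _ hl'
        rw [mul_smul, mul_smul, inv_eq_self h.el hf, e1, ← eq_inv_smul_iff, inv_eq_self h.el hf,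
          e1] at this
        exact this
      · push Not at hin
        exact hz d hd hin.1 hin.2 l hl
    exact sub_eq_zero.1 hzero
  -- a fixed point of `A`
  obtain ⟨r, -, hr0, hr⟩ := exists_fixed hp A h.el ⊤
    (by intro q; obtain ⟨x, hx⟩ := exists_ne (0 : W)
        exact hx (AddSubgroup.mem_bot.1 (q ▸ AddSubgroup.mem_top x)))
    (fun _ _ _ _ => AddSubgroup.mem_top _)
  have hdiag : ∀ {e f : Γ W}, e ∈ A → f ∈ A → cj e K ≠ K → cj f K ≠ K → cj f K ≠ cj e K →
      ∀ c ∈ A, ∀ m ∈ cj c K, (m * (e * m * e⁻¹)) • r = r := by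
    intro e f he hf heK hfK hfe c hc m hm
    set s := (m * (e * m * e⁻¹)) • r - r with hs
    have hm' : e * m * e⁻¹ ∈ cj (e * c) K := hcjmem he hc hm
    have hout : ∀ d ∈ A, cj d K ≠ cj c K → cj d K ≠ cj (c * e) K → ∀ k ∈ cj d K, k • s = s := by
      intro d hd hdc hdce
      have hed : cj (e * d) K ≠ cj d K := fun q => heK (hcancel he hd q)
      have hedc : cj (e * d) K ≠ cj c K := fun q => hdce (by
        have h3 := congrArg (cj e) q
        rw [← cj_mul, ← cj_mul, ← mul_assoc, hsq he, one_mul, hcc he hc] at h3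
        exact h3)
      have hedce : cj (e * d) K ≠ cj (e * c) K := fun q => hdc (hshift q)
      have key : ∀ x ∈ cj d K, (e * x * e⁻¹) • s = x • s := by
        intro x hx
        have hx' : e * x * e⁻¹ ∈ cj (e * d) K := hcjmem he hd hx
        have cx : Commute (m * (e * m * e⁻¹)) x :=
          ((h.commute_members hc hd hdc.symm hm hx).mul_left
            (h.commute_members (A.mul_mem he hc) hd (fun q => hdce (by rw [hcc he hc] at q; exact q.symm))
              hm' hx))
        have cx' : Commute (m * (e * m * e⁻¹)) (e * x * e⁻¹) :=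
          ((h.commute_members hc (A.mul_mem he hd) hedc.symm hm hx').mul_left
            (h.commute_members (A.mul_mem he hc) (A.mul_mem he hd) hedce.symm hm' hx'))
        have her : (e * x * e⁻¹) • r = e • (x • r) := by
          rw [mul_smul, mul_smul, hr _ (A.inv_mem he)]
        have h2 := hrel.of_mem h.el he heK hc hm _ (com_mem e (x • r))
        rw [← her, smul_sub, smul_smul, smul_smul, cx.eq, cx'.eq, mul_smul, mul_smul] at h2
        rw [hs, smul_sub, smul_sub, sub_eq_sub_iff_sub_eq_sub]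
        exact h2
      have hyx : ∀ x ∈ cj d K, ∀ y ∈ cj d K, (y * x) • s = (x * y) • s := by
        intro x hx y hy
        have hy' : e * y * e⁻¹ ∈ cj (e * d) K := hcjmem he hd hy
        have c1 : Commute (e * y * e⁻¹) x := h.commute_members (A.mul_mem he hd) hd hed hy' hx
        calc (y * x) • s = (e * (y * x) * e⁻¹) • s := (key _ ((cj d K).mul_mem hy hx)).symm
          _ = (e * y * e⁻¹) • ((e * x * e⁻¹) • s) := by rw [smul_smul]; congr 1; group
          _ = x • (y • s) := by rw [key x hx, smul_smul, c1.eq, mul_smul, key y hy]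
          _ = (x * y) • s := (mul_smul _ _ _).symm
      refine h.fixed_of_commutators fun x hx y hy => ?_
      have h4 := hyx x⁻¹ ((cj d K).inv_mem hx) y⁻¹ ((cj d K).inv_mem hy)
      rw [commutatorElement_def, mul_assoc (x * y), mul_smul, ← h4, ← mul_inv_rev, smul_inv_smul]
    exact sub_eq_zero.1 (by
      rw [← AddSubgroup.mem_bot, ← hfix]
      refine mem_fix_Lsup.2 fun d hd k hk => ?_
      by_cases h1 : cj d K = cj c K
      · exact pair hc he hf heK hfK hfe s hout k (h1 ▸ hk)
      by_cases h2 : cj d K = cj (c * e) K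
      · refine pair (A.mul_mem hc he) he hf heK hfK hfe s (fun d' hd' q1 q2 => hout d' hd' ?_ q1) k (h2 ▸ hk)
        rwa [mul_assoc, hsq he, mul_one] at q2
      exact hout d hd h1 h2 k hk)
  apply hr0
  rw [← AddSubgroup.mem_bot, ← hfix]
  refine mem_fix_Lsup.2 fun c hc => h.fixed_of_commutators fun x hx y hy => ?_
  have h1 : x * (a * x * a⁻¹) ∈ MulAction.stabilizer (Γ W) r := hdiag ha hb haK hbK hab c hc x hx
  have h2 : y * (b * y * b⁻¹) ∈ MulAction.stabilizer (Γ W) r := hdiag hb ha hbK haK hab.symm c hc y hy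
  have ha' : a * x * a⁻¹ ∈ cj (a * c) K := hcjmem ha hc hx
  have hb' : b * y * b⁻¹ ∈ cj (b * c) K := hcjmem hb hc hy
  have hne : ∀ {g : Γ W}, g ∈ A → cj g K ≠ K → cj (g * c) K ≠ cj c K := fun {g} hg hgK q =>
    hgK (hcancel hg hc q)
  have hne' : cj (a * c) K ≠ cj (b * c) K := fun q => hab (by
    rw [hcc ha hc, hcc hb hc] at q; exact (hshift q).symm)
  have e : ⁅x * (a * x * a⁻¹), y * (b * y * b⁻¹)⁆ = ⁅x, y⁆ := comm_eq
    (h.commute_members (A.mul_mem ha hc) hc (hne ha haK) ha' hx)
    (h.commute_members (A.mul_mem ha hc) hc (hne ha haK) ha' hy)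
    (h.commute_members (A.mul_mem ha hc) (A.mul_mem hb hc) hne' ha' hb')
    (h.commute_members (A.mul_mem hb hc) hc (hne hb hbK) hb' hx)
    (h.commute_members (A.mul_mem hb hc) hc (hne hb hbK) hb' hy)
  rw [← e, commutatorElement_def]
  show _ ∈ MulAction.stabilizer (Γ W) r
  exact mul_mem (mul_mem (mul_mem h1 h2) (inv_mem h1)) (inv_mem h2)

/-- A perfect group of order at most 15 is trivial. -/
theorem bot_of_small {G : Type v} [Group G] (K : Subgroup G) [Finite K] (hperf : ⁅K, K⁆ = K)
    (hcard : Nat.card K ≤ 15) : K = ⊥ := by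
  have hab : ∃ r s a b : ℕ, r.Prime ∧ s.Prime ∧ Nat.card K = r ^ a * s ^ b := by
    have hpos : 0 < Nat.card K := Nat.card_pos
    generalize Nat.card K = n at hcard hpos
    interval_cases n
    exacts [⟨2, 3, 0, 0, by norm_num⟩, ⟨2, 3, 1, 0, by norm_num⟩, ⟨2, 3, 0, 1, by norm_num⟩,
      ⟨2, 3, 2, 0, by norm_num⟩, ⟨5, 2, 1, 0, by norm_num⟩, ⟨2, 3, 1, 1, by norm_num⟩,
      ⟨7, 2, 1, 0, by norm_num⟩, ⟨2, 3, 3, 0, by norm_num⟩, ⟨2, 3, 0, 2, by norm_num⟩,
      ⟨5, 2, 1, 1, by norm_num⟩, ⟨11, 2, 1, 0, by norm_num⟩, ⟨2, 3, 2, 1, by norm_num⟩,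
      ⟨13, 2, 1, 0, by norm_num⟩, ⟨7, 2, 1, 1, by norm_num⟩, ⟨5, 3, 1, 1, by norm_num⟩]
  obtain ⟨r, s, a, b, hr, hs, e⟩ := hab
  haveI := CfsgLib.Burnside.isSolvable_of_card_eq hr hs a b e
  have hp : commutator K = ⊤ := by
    apply Subgroup.map_injective K.subtype_injective
    rw [← MonoidHom.range_eq_map, Subgroup.range_subtype, commutator_def, Subgroup.map_commutator,
      ← MonoidHom.range_eq_map, Subgroup.range_subtype, hperf]
  rcases subsingleton_or_nontrivial K with h | h
  · rw [Subgroup.eq_bot_iff_forall]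
    exact fun x hx => congrArg Subtype.val (Subsingleton.elim (⟨x, hx⟩ : K) 1)
  · exact absurd hp (Group.IsSolvable.commutator_lt_top_of_nontrivial _).ne

/-- The invariant subgroups are trivial. -/
def Irr (A K : Subgroup (Γ W)) : Prop := ∀ U : AddSubgroup W, Inv A K U → U = ⊥ ∨ U = ⊤

/-- The ring generated by `K`. -/
def ringK (K : Subgroup (Γ W)) : Subring (AddMonoid.End W) :=
  Subring.closure ((fun k : Γ W => (k : AddMonoid.End W)) '' K)

/-- Two conjugates are impossible. -/
theorem false_of_two [Finite W] (hp : ∀ w : W, 2 • w = 0) (h : Setup 2 A K) (hrel : Rel A K)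
    (hfix : fix (Lsup A K) = ⊥) (hirr : Irr A K) {a : Γ W} (ha : a ∈ A) (haK : cj a K ≠ K)
    (htwo : ∀ c ∈ A, cj c K = K ∨ cj c K = cj a K)
    (hoff : Nat.card W ≤ Nat.card A * Nat.card (fix A)) (hW : Nontrivial W) : False := by
  classical
  haveI : Fact (Nat.Prime 2) := ⟨Nat.prime_two⟩
  have hsq : ∀ {c : Γ W}, c ∈ A → c * c = 1 := fun hc => by rw [← pow_two]; exact h.el.2 _ hc
  have hai := inv_eq_self h.el ha
  have hsmul2 : ∀ {c : Γ W}, c ∈ A → ∀ w : W, c • c • w = w := fun hc w => by
    rw [smul_smul, hsq hc, one_smul]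
  obtain ⟨r, hrc, hr0, hr⟩ := exists_fixed hp A h.el (com a)
    (fun q => haK (by rw [eq_one_of_com q, cj_one]))
    (fun c hc u hu => smul_mem_com (commute_of_mem h.el hc ha) hu)
  set R := ringK K with hR
  have hKR : ∀ {k : Γ W}, k ∈ K → (k : AddMonoid.End W) ∈ R := fun hk => Subring.subset_closure ⟨_, hk, rfl⟩
  let kR : (k : Γ W) → k ∈ K → R := fun k hk => ⟨(k : AddMonoid.End W), hKR hk⟩
  -- conjugation of the ring by `a` commutes with the ring
  have hcom : ∀ x ∈ R, ∀ y ∈ R,
      (a : AddMonoid.End W) * x * (a : AddMonoid.End W) * y =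
        y * ((a : AddMonoid.End W) * x * (a : AddMonoid.End W)) := by
    have haa : (a : AddMonoid.End W) * a = 1 := by rw [← Units.val_mul, hsq ha, Units.val_one]
    intro x hx
    induction hx using Subring.closure_induction with
    | mem x hx =>
      obtain ⟨k, hk, rfl⟩ := hx
      intro y hy
      induction hy using Subring.closure_induction with
      | mem y hy =>
        obtain ⟨l, hl, rfl⟩ := hy
        have hc := h.comm a ha haK l hl (a * k * a⁻¹) (conj_mem_cj hk)
        rw [hai] at hc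
        simpa only [Units.val_mul] using congrArg Units.val hc.eq.symm
      | zero => simp
      | one => simp
      | add y z _ _ hy hz => rw [mul_add, add_mul, hy, hz]
      | neg y _ hy => rw [mul_neg, neg_mul, hy]
      | mul y z _ _ hy hz => rw [← mul_assoc, hy, mul_assoc y, hz, ← mul_assoc]
    | zero => intro y _; simp
    | one => intro y _; simp [haa]
    | add x z _ _ hx hz => intro y hy; simp only [mul_add, add_mul]; rw [hx y hy, hz y hy]
    | neg x _ hx => intro y hy; simp only [mul_neg, neg_mul]; rw [hx y hy]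
    | mul x z _ _ hx hz =>
      intro y hy
      have e : (a : AddMonoid.End W) * (x * z) * a = (a * x * a) * (a * z * a) := by
        calc (a : AddMonoid.End W) * (x * z) * a = a * x * 1 * z * a := by rw [mul_one, mul_assoc _ x z]
          _ = _ := by rw [← haa]; simp only [mul_assoc]
      rw [e, mul_assoc, hz y hy, ← mul_assoc, hx y hy, mul_assoc]
  have hcom' : ∀ x ∈ R, ∀ y ∈ R, ∀ w : W, a • x (a • y w) = y (a • x (a • w)) := fun x hx y hy w =>
    DFunLike.congr_fun (hcom x hx y hy) w
  have hakr : ∀ k (hk : k ∈ K), a • ((k : AddMonoid.End W) r) = ((k⁻¹ : Γ W) : AddMonoid.End W) r := by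
    intro k hk
    have := hrel a ha haK k hk r hrc
    rw [mul_smul, mul_smul, mul_smul, hr _ (A.inv_mem ha)] at this
    exact eq_inv_smul_iff.2 this
  -- every element of the ring has a partner
  have hpart : ∀ x ∈ R, ∃ y ∈ R, a • (x r) = y r := by
    intro x hx
    induction hx using Subring.closure_induction with
    | mem x hx =>
      obtain ⟨k, hk, rfl⟩ := hx
      exact ⟨_, hKR (K.inv_mem hk), hakr k hk⟩
    | zero => exact ⟨0, R.zero_mem, smul_zero a⟩
    | one => exact ⟨1, R.one_mem, hr a ha⟩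
    | add x z _ _ hx hz =>
      obtain ⟨y, hy, e⟩ := hx
      obtain ⟨y', hy', e'⟩ := hz
      exact ⟨y + y', R.add_mem hy hy', (smul_add a _ _).trans (congrArg₂ (· + ·) e e')⟩
    | neg x _ hx =>
      obtain ⟨y, hy, e⟩ := hx
      exact ⟨-y, R.neg_mem hy, (smul_neg a _).trans (congrArg Neg.neg e)⟩
    | mul x z hx' hz' hx hz =>
      obtain ⟨y, hy, e⟩ := hx
      obtain ⟨y', hy', e'⟩ := hz
      refine ⟨y' * y, R.mul_mem hy' hy, ?_⟩
      show a • x (z r) = y' (y r)
      rw [← hsmul2 ha (z r), e', hcom' x hx' y' hy', hr a ha, e]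
  have hbR : ∀ b ∈ A, cj b K = K → ∀ x ∈ R,
      (b : AddMonoid.End W) * x * ((b⁻¹ : Γ W) : AddMonoid.End W) ∈ R := by
    intro b hb hbK x hx
    induction hx using Subring.closure_induction with
    | mem x hx =>
      obtain ⟨k, hk, rfl⟩ := hx
      rw [← Units.val_mul, ← Units.val_mul]
      exact hKR (hbK.le (conj_mem_cj hk))
    | zero => simp [R.zero_mem]
    | one => rw [mul_one, Units.mul_inv]; exact R.one_mem
    | add x z _ _ hx hz => rw [mul_add, add_mul]; exact R.add_mem hx hz
    | neg x _ hx => rw [mul_neg, neg_mul]; exact R.neg_mem hx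
    | mul x z _ _ hx hz =>
      have := R.mul_mem hx hz
      rwa [mul_assoc (_ * x), ← mul_assoc _ (_ * z), ← mul_assoc _ (b : AddMonoid.End W),
        Units.inv_mul, one_mul, ← mul_assoc, mul_assoc (b : AddMonoid.End W) x] at this
  let ev : R →+ W :=
    { toFun := fun x => (x : AddMonoid.End W) r
      map_zero' := rfl
      map_add' := fun x y => rfl }
  have hbev : ∀ b, ∀ (hb : b ∈ A) (hbK : cj b K = K) (x : R), b • ev x =
      ev ⟨_, hbR b hb hbK x x.2⟩ := by
    intro b hb hbK x
    show b • (x : AddMonoid.End W) r = b • (x : AddMonoid.End W) (b⁻¹ • r)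
    rw [hr _ (A.inv_mem hb)]
  have hcases : ∀ c ∈ A, cj c K = K ∨ ∃ b ∈ A, cj b K = K ∧ c = a * b := by
    intro c hc
    rcases htwo c hc with q | q
    · exact Or.inl q
    · refine Or.inr ⟨a * c, A.mul_mem ha hc, ?_, by rw [← mul_assoc, hsq ha, one_mul]⟩
      rw [cj_mul, q, ← cj_mul, hsq ha, cj_one]
  have hsurj : Function.Surjective ev := by
    have hinv : Inv A K ev.range := by
      refine ⟨?_, ?_⟩
      · rintro k hk _ ⟨x, rfl⟩
        exact ⟨kR k hk * x, rfl⟩
      · rintro c hc _ ⟨x, rfl⟩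
        rcases hcases c hc with q | ⟨b, hb, q, rfl⟩
        · exact ⟨_, (hbev c hc q x).symm⟩
        · obtain ⟨y, hy, e⟩ := hpart _ (hbR b hb q x x.2)
          refine ⟨⟨y, hy⟩, ?_⟩
          rw [mul_smul, hbev b hb q x]
          exact e.symm
    rcases hirr _ hinv with q | q
    · exfalso
      have : r ∈ ev.range := ⟨1, rfl⟩
      rw [q] at this
      exact hr0 (AddSubgroup.mem_bot.1 this)
    · exact AddMonoidHom.range_eq_top.1 q
  have hinj : Function.Injective ev := by
    rw [injective_iff_map_eq_zero]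
    intro x hx
    apply Subtype.ext
    refine AddMonoidHom.ext fun w => ?_
    obtain ⟨z, hz⟩ := hsurj (a • w)
    change (z : AddMonoid.End W) r = a • w at hz
    have e : w = a • (z : AddMonoid.End W) r := by rw [hz, hsmul2 ha]
    show (x : AddMonoid.End W) w = (0 : W)
    have e2 := hcom' z.1 z.2 x.1 x.2 r
    rw [hr a ha] at e2
    rw [e, ← e2]
    change (x : AddMonoid.End W) r = 0 at hx
    rw [hx, smul_zero, map_zero, smul_zero]
  let evE : R ≃+ W := AddEquiv.ofBijective ev ⟨hinj, hsurj⟩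
  let st : R ≃+ R := (evE.trans (DistribMulAction.toAddEquiv W a)).trans evE.symm
  have st_ev : ∀ x : R, ev (st x) = a • ev x := fun x => evE.apply_symm_apply _
  have haev : ∀ x y : R, a • ev (x * y) = ev (st y * st x) := by
    intro x y
    show a • (x : AddMonoid.End W) ((y : AddMonoid.End W) r) =
      (st y : AddMonoid.End W) (ev (st x))
    rw [st_ev]
    have e1 : (y : AddMonoid.End W) r = a • (st y : AddMonoid.End W) r := by
      show ev y = a • ev (st y)
      rw [st_ev, hsmul2 ha]
    rw [e1, hcom' _ x.2 _ (st y).2, hr a ha]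
    rfl
  have hanti : ∀ x y, st (x * y) = st y * st x := fun x y => hinj (by rw [st_ev, haev])
  have h2 : ∀ x : R, x + x = 0 := fun x => Subtype.ext (AddMonoidHom.ext fun w => two_eq_zero' hp _)
  have hstinv : ∀ x, st (st x) = x := fun x => hinj (by rw [st_ev, st_ev, hsmul2 ha])
  have htc : ∀ x : R, x + st x ∈ Subring.center R := by
    intro x
    have hv : ev (x + st x) ∈ com a := by
      refine mem_com.2 ⟨ev x, ?_⟩
      rw [map_add, st_ev, sub_eq_iff_eq_add, add_comm (ev x), add_assoc, two_eq_zero' hp, add_zero]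
    set z := x + st x with hz
    refine Subring.mem_center_iff.2 fun y => Subtype.ext ?_
    have hle : R ≤ Subring.centralizer {(z : AddMonoid.End W)} := by
      refine Subring.closure_le.2 ?_
      rintro _ ⟨k, hk, rfl⟩
      rw [SetLike.mem_coe, Subring.mem_centralizer_iff]
      rintro _ rfl
      have e3 := hrel a ha haK k hk _ hv
      have e4 : kR k hk * z * kR k⁻¹ (K.inv_mem hk) = z := by
        apply hinj
        rw [← e3]
        show k • (z : AddMonoid.End W) (((k⁻¹ : Γ W) : AddMonoid.End W) r) = (k * (a * k * a⁻¹)) • (z : AddMonoid.End W) r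
        rw [← hakr k hk, hai, mul_smul, mul_smul, mul_smul]
        congr 1
        have := hcom' _ (hKR hk) _ z.2 r
        rw [hr a ha] at this
        exact this.symm
      have e5 := congrArg (fun t : R => (t : AddMonoid.End W) * (k : AddMonoid.End W)) e4
      simp only [Subring.coe_mul, kR, mul_assoc, Units.inv_mul, mul_one] at e5
      exact e5.symm
    exact (Subring.mem_centralizer_iff.1 (hle y.2) _ rfl).symm
  have hnc : ∃ x y : R, x * y ≠ y * x := by
    by_contra hall
    push Not at hall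
    refine h.not_abelian fun k hk => Subgroup.mem_centralizer_iff.2 fun l hl => Units.ext ?_
    exact congrArg Subtype.val (hall (kR l hl) (kR k hk))
  let B : Subgroup (Γ W) :=
    { carrier := {b | b ∈ A ∧ cj b K = K}
      mul_mem' := fun {b c} hb hc => ⟨A.mul_mem hb.1 hc.1, by rw [cj_mul, hc.2, hb.2]⟩
      one_mem' := ⟨A.one_mem, cj_one⟩
      inv_mem' := fun {b} hb => ⟨A.inv_mem hb.1, by
        conv_lhs => rw [← hb.2, ← cj_mul, inv_mul_cancel, cj_one]⟩ }
  let conjB : B →* (R ≃+* R) :=
    { toFun := fun b =>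
        { toFun := fun x => ⟨_, hbR b b.2.1 b.2.2 x x.2⟩
          invFun := fun x => ⟨_, hbR _ (b⁻¹).2.1 (b⁻¹).2.2 x x.2⟩
          left_inv := fun x => Subtype.ext (by
            simp only [InvMemClass.coe_inv, inv_inv, ← mul_assoc, Units.inv_mul, one_mul]
            rw [mul_assoc, Units.inv_mul, mul_one])
          right_inv := fun x => Subtype.ext (by
            simp only [InvMemClass.coe_inv, inv_inv, ← mul_assoc, Units.mul_inv, one_mul]
            rw [mul_assoc, Units.mul_inv, mul_one])
          map_mul' := fun x y => Subtype.ext (by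
            simp only [Subring.coe_mul, mul_assoc]
            rw [← mul_assoc (((b : Γ W)⁻¹ : Γ W) : AddMonoid.End W) ((b : Γ W) : AddMonoid.End W),
              Units.inv_mul, one_mul])
          map_add' := fun x y => Subtype.ext (by simp only [Subring.coe_add, mul_add, add_mul]) }
      map_one' := RingEquiv.ext fun x => Subtype.ext (by simp)
      map_mul' := fun b c => RingEquiv.ext fun x => Subtype.ext (by
        simp [mul_assoc, mul_inv_rev]) }
  have conjB_ev : ∀ (b : B) (x : R), ev (conjB b x) = (b : Γ W) • ev x :=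
    fun b x => (hbev b b.2.1 b.2.2 x).symm
  have cinj : Function.Injective conjB := by
    rw [injective_iff_map_eq_one]
    intro b hb
    refine Subtype.ext (ext_smul fun w => ?_)
    obtain ⟨x, rfl⟩ := hsurj w
    rw [← conjB_ev, hb, Subgroup.coe_one, one_smul]
    rfl
  set P := conjB.range with hP
  have hcardA : Nat.card A ≤ 2 * Nat.card P := by
    have hPB : Nat.card P = Nat.card B := (Nat.card_congr (MonoidHom.ofInjective cinj).toEquiv).symm
    let g : A → Bool × B := fun c =>
      if q : cj (c : Γ W) K = K then (true, ⟨c, c.2, q⟩)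
      else (false, ⟨a * c, A.mul_mem ha c.2, by
        rcases htwo c c.2 with q' | q'
        · exact absurd q' q
        · rw [cj_mul, q', ← cj_mul, hsq ha, cj_one]⟩)
    have ginj : Function.Injective g := by
      intro c d e
      simp only [g] at e
      split_ifs at e with q1 q2 q2
      · exact Subtype.ext (congrArg (fun t : Bool × B => (t.2 : Γ W)) e)
      · exact absurd (congrArg Prod.fst e) (by simp)
      · exact absurd (congrArg Prod.fst e) (by simp)
      · exact Subtype.ext (mul_left_cancel (congrArg (fun t : Bool × B => (t.2 : Γ W)) e))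
    refine (Nat.card_le_card_of_injective g ginj).trans (le_of_eq ?_)
    rw [Nat.card_prod, hPB]; simp
  have hcard := card_bound h2 st hanti hstinv htc hnc P
    (by
      rintro _ ⟨b, rfl⟩
      rw [← map_mul, show b * b = 1 from Subtype.ext (hsq b.2.1), map_one])
    (by
      rintro _ ⟨b, rfl⟩ _ ⟨c, rfl⟩
      rw [← map_mul, ← map_mul, show b * c = c * b from Subtype.ext (commute_of_mem h.el b.2.1 c.2.1).eq])
    (by
      rintro _ ⟨b, rfl⟩ x
      exact hinj (by
        rw [conjB_ev, st_ev, st_ev, conjB_ev, smul_smul, smul_smul, (commute_of_mem h.el b.2.1 ha).eq]))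
    (by
      intro J hJi hJst hJP
      have hinv : Inv A K (J.map ev) := by
        refine ⟨?_, ?_⟩
        · rintro k hk _ ⟨x, hx, rfl⟩
          exact ⟨kR k hk * x, (hJi _ _ hx).1, rfl⟩
        · rintro c hc _ ⟨x, hx, rfl⟩
          rcases hcases c hc with q | ⟨b, hb, q, rfl⟩
          · exact ⟨_, hJP _ ⟨⟨c, hc, q⟩, rfl⟩ x hx, conjB_ev _ x⟩
          · refine ⟨_, hJst _ (hJP _ ⟨⟨b, hb, q⟩, rfl⟩ x hx), ?_⟩
            rw [st_ev, conjB_ev, mul_smul]
      rcases hirr _ hinv with q | q
      · exact Or.inl ((AddSubgroup.map_eq_bot_iff_of_injective _ hinj).1 q)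
      · right
        rw [eq_top_iff]
        intro x _
        obtain ⟨y, hy, e⟩ : ev x ∈ J.map ev := q ▸ AddSubgroup.mem_top _
        rwa [hinj e] at hy)
    (by
      rw [Nat.card_congr evE.toEquiv]
      refine hoff.trans (Nat.mul_le_mul hcardA ?_)
      refine Nat.card_le_card_of_injective (fun w : fix A => ⟨evE.symm w.1, ?_, ?_⟩)
        fun v w e => Subtype.ext (evE.symm.injective (congrArg Subtype.val e))
      · exact hinj (by
          rw [st_ev, show ev (evE.symm w.1) = w.1 from evE.apply_symm_apply _, w.2 a ha])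
      · rintro _ ⟨b, rfl⟩
        exact hinj (by
          rw [conjB_ev, show ev (evE.symm w.1) = w.1 from evE.apply_symm_apply _, w.2 _ b.2.1]))
  have hK : Nat.card K ≤ 15 := by
    have h16 : Nat.card {x : R // x ≠ 0} ≤ 15 := by
      letI := Fintype.ofFinite R
      rw [Nat.card_eq_fintype_card, Fintype.card_subtype_compl, Fintype.card_subtype_eq,
        ← Nat.card_eq_fintype_card, hcard]
    refine le_trans (Nat.card_le_card_of_injective (fun k : K => (⟨kR k k.2, fun e => ?_⟩ : {x : R // x ≠ 0}))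
      fun k l e => Subtype.ext (Units.ext (congrArg (fun t : {x : R // x ≠ 0} => t.1.1) e))) h16
    have e' : ((k : Γ W) • r : W) = 0 := DFunLike.congr_fun (congrArg Subtype.val e) r
    exact hr0 (by rw [← inv_smul_smul (k : Γ W) r, e', smul_zero])
  exact h.ne (bot_of_small K h.perfect hK)

/-- The irreducible case. -/
theorem false_of_irreducible [Finite W] (hp : ∀ w : W, 2 • w = 0) (h : Setup 2 A K) (hrel : Rel A K)
    (hfix : fix (Lsup A K) = ⊥) (hirr : Irr A K) {a : Γ W} (ha : a ∈ A) (haK : cj a K ≠ K)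
    (hoff : Nat.card W ≤ Nat.card A * Nat.card (fix A)) (hW : Nontrivial W) : False := by
  by_cases htwo : ∀ c ∈ A, cj c K = K ∨ cj c K = cj a K
  · exact false_of_two hp h hrel hfix hirr ha haK htwo hoff hW
  · push Not at htwo
    obtain ⟨b, hb, hbK, hab⟩ := htwo
    exact false_of_many hp h hrel hfix ha hb hab hbK haK hW

end CfsgLib.LocalEven.PGV
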