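import Mathlib
import Cfsg.Agent.Lib.LocalEven.PGV.Setup
import Cfsg.Agent.Lib.Transfer.QuadraticAction

/-!
The P(G,V)-configuration is impossible for odd `p`: neither a quadratic element nor an element whose
commutator space is fixed by a nontrivially acting normalising element can move `K`.
-/

set_option autoImplicit false

namespace CfsgLib.LocalEven.PGV

universe v

variable {W : Type v} [AddCommGroup W] [Finite W] {p : ℕ} [hpp : Fact p.Prime]
  {A K : Subgroup (Γ W)} {a : Γ W}

omit [Finite W] in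
theorem pow_mem_normalizer_iff (h : Setup p A K) (ha : a ∈ A) (hne : cj a K ≠ K) {n : ℕ} :
    cj (a ^ n) K = K ↔ p ∣ n := by
  constructor
  · intro e
    by_contra hn
    have hcop : Nat.Coprime n p := (hpp.out.coprime_iff_not_dvd.2 hn).symm
    obtain ⟨k, -, hk⟩ := Nat.exists_mul_mod_eq_one_of_coprime hcop hpp.out.one_lt
    have hpow : ∀ j : ℕ, cj ((a ^ n) ^ j) K = K := by
      intro j
      induction j with
      | zero => simpa using cj_one
      | succ j ih => rw [pow_succ, cj_mul, e, ih]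
    apply hne
    have := hpow k
    rwa [← pow_mul, pow_eq_pow_mod _ (h.el.2 a ha), hk, pow_one] at this
  · rintro ⟨c, rfl⟩
    rw [pow_mul, h.el.2 a ha, one_pow, cj_one]

omit [Finite W] in
theorem zmod_pow_add (ha : a ^ p = 1) (i j : ZMod p) :
    a ^ (i + j).val = a ^ i.val * a ^ j.val := by
  rw [← pow_add, ZMod.val_add]
  exact (pow_eq_pow_mod _ ha).symm

omit [Finite W] in
theorem sub_ne {i j : ZMod p} (hij : i ≠ j) : ¬ p ∣ (i - j).val := fun hd => hij (by
  have h0 : (i - j).val = 0 := Nat.eq_zero_of_dvd_of_lt hd (ZMod.val_lt _)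
  exact sub_eq_zero.1 ((ZMod.val_eq_zero _).1 h0))

theorem false_of_odd (hp : ∀ w : W, p • w = 0) (hp2 : p ≠ 2) (h : Setup p A K) (ha : a ∈ A)
    (hne : cj a K ≠ K)
    (hcase : ((a : AddMonoid.End W) - 1) * ((a : AddMonoid.End W) - 1) = 0 ∨
      ∃ g ∈ A, cj g K = K ∧ (¬ ∀ k ∈ K, g * k = k * g) ∧ g ∈ fixer (com a)) : False := by
  have hap : a ^ p = 1 := h.el.2 a ha
  obtain ⟨x, hx, hxc, hxp, -⟩ := h.exists_noncentral hpp.out hpp.out
  have hxord : x ^ orderOf x = 1 := pow_orderOf_eq_one x
  have hmem : ∀ i : ZMod p, a ^ i.val ∈ A := fun i => A.pow_mem ha _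
  have hdist : ∀ i j : ZMod p, i ≠ j → cj (a ^ i.val) K ≠ cj (a ^ j.val) K := by
    intro i j hij e
    apply sub_ne hij.symm
    rw [← pow_mem_normalizer_iff h ha hne]
    have e' := congrArg (cj ((a ^ i.val)⁻¹)) e
    rw [← cj_mul, ← cj_mul, inv_mul_cancel, cj_one] at e'
    rw [show a ^ (j - i).val = (a ^ i.val)⁻¹ * a ^ j.val by
      rw [eq_inv_mul_iff_mul_eq, ← zmod_pow_add hap, add_sub_cancel]]
    exact e'.symm
  rcases hcase with hq | ⟨g, hgA, hgK, hgc, hgf⟩
  · -- a quadratic element commutes with the abelian group of conjugates of `x`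
    have hpz : (p : AddMonoid.End W) = 0 := AddMonoidHom.ext fun w =>
      (AddMonoid.End.natCast_apply p w).trans (hp w)
    have hc := CfsgLib.Transfer.QuadraticAction.commute_of_comm
      (Units.coeHom (AddMonoid.End W)) hq hpz
      ((Nat.coprime_primes Nat.prime_two hpp.out).2 (Ne.symm hp2)) (x := x) (orderOf_pos x) hxp
      (by rw [← map_pow, hxord, map_one]) (fun i => by
        obtain ⟨n, hn⟩ : ∃ n : ℕ, a ^ i = a ^ n := by
          refine ⟨(i % (orderOf a : ℤ)).toNat, ?_⟩
          rw [← zpow_natCast, Int.toNat_of_nonneg (Int.emod_nonneg _ (by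
            exact_mod_cast (orderOf_pos a).ne')), zpow_mod_orderOf]
        rw [zpow_neg, hn]
        refine Commute.map ?_ _
        by_cases hd : p ∣ n
        · obtain ⟨c, rfl⟩ := hd
          rw [pow_mul, hap, one_pow, one_mul, inv_one, mul_one]
        · exact h.comm _ (A.pow_mem ha n) (fun e => hd ((pow_mem_normalizer_iff h ha hne).1 e)) x hx _
            (conj_mem_cj hx))
    have hc' : Commute a x := Commute.units_val_iff.1 hc
    apply hxc
    rw [Subgroup.mem_centralizer_iff]
    intro y hy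
    refine (h.comm a ha hne y hy x ?_).eq
    have := conj_mem_cj (c := a) hx
    rwa [hc'.eq, mul_inv_cancel_right] at this
  -- the relation case
  let φ : ZMod p → K →* Γ W := fun i => (MulAut.conj (a ^ i.val)).toMonoidHom.comp K.subtype
  have hφc : Pairwise fun i j => ∀ (u v : K), Commute (φ i u) (φ j v) := fun i j hij u v =>
    h.commute_members (hmem i) (hmem j) (hdist i j hij) (conj_mem_cj u.2) (conj_mem_cj v.2)
  let P : (ZMod p → K) →* Γ W := MonoidHom.noncommPiCoprod φ hφc
  have hP1 : ∀ i u, P (Pi.mulSingle i u) = φ i u := fun i u =>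
    MonoidHom.noncommPiCoprod_mulSingle φ (hcomm := hφc) i u
  have hshift : ∀ (m : ZMod p) (f : ZMod p → K),
      a ^ m.val * P f * (a ^ m.val)⁻¹ = P (fun i => f (i - m)) := by
    intro m f
    let L : (ZMod p → K) →* Γ W := (MulAut.conj (a ^ m.val)).toMonoidHom.comp P
    let R : (ZMod p → K) →* Γ W := P.comp
      { toFun := fun f i => f (i - m), map_one' := rfl, map_mul' := fun _ _ => rfl }
    have e : L = R := by
      refine MonoidHom.pi_ext (M := fun _ : ZMod p => K) (f := L) (g := R) ?_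
      intro i u
      show a ^ m.val * P (Pi.mulSingle i u) * (a ^ m.val)⁻¹ = P (fun j => (Pi.mulSingle i u : ZMod p → K) (j - m))
      have e1 : (fun j => (Pi.mulSingle i u : ZMod p → K) (j - m)) = Pi.mulSingle (m + i) u := by
        funext j
        simp only [Pi.mulSingle_apply]
        congr 1
        rw [eq_iff_iff, sub_eq_iff_eq_add, add_comm]
      rw [e1, hP1, hP1]
      show a ^ m.val * (a ^ i.val * (u : Γ W) * (a ^ i.val)⁻¹) * (a ^ m.val)⁻¹ =
        a ^ (m + i).val * (u : Γ W) * (a ^ (m + i).val)⁻¹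
      rw [zmod_pow_add hap]; group
    exact DFunLike.congr_fun e f
  have hPmem : ∀ (H : Subgroup (Γ W)) (f : ZMod p → K), (∀ j, φ j (f j) ∈ H) → P f ∈ H := by
    intro H f hf
    have := Subgroup.pi_mem_of_mulSingle_mem (H := H.comap P) f fun i => by
      rw [Subgroup.mem_comap, hP1]; exact hf i
    exact this
  let δ : K →* Γ W := P.comp (Pi.constMonoidHom (ZMod p) K)
  have hδshift : ∀ (m : ZMod p) (k : K), Commute (δ k) (a ^ m.val) := fun m k => by
    have := hshift m (fun _ => k)
    exact (mul_inv_eq_iff_eq_mul.1 this).symm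
  have h1 : (1 : ZMod p).val = 1 := ZMod.val_one p
  have hδa : ∀ k, Commute (δ k) a := fun k => by simpa [h1] using hδshift 1 k
  have hδg : ∀ k k' : K, (k' : Γ W) = g * k * g⁻¹ → g * δ k * g⁻¹ = δ k' := by
    intro k k' ek
    let L : (ZMod p → K) →* Γ W := (MulAut.conj g).toMonoidHom.comp P
    let cg : K →* K :=
      { toFun := fun u => ⟨g * u * g⁻¹, hgK.le (conj_mem_cj u.2)⟩
        map_one' := Subtype.ext (by simp)
        map_mul' := fun u v => Subtype.ext (by simp [mul_assoc]) }
    let R : (ZMod p → K) →* Γ W := P.comp (MonoidHom.pi fun i => cg.comp (Pi.evalMonoidHom _ i))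
    have e : L = R := by
      refine MonoidHom.pi_ext (M := fun _ : ZMod p => K) (f := L) (g := R) ?_
      intro i u
      show g * P (Pi.mulSingle i u) * g⁻¹ = P (fun j => cg ((Pi.mulSingle i u : ZMod p → K) j))
      have e1 : (fun j => cg ((Pi.mulSingle i u : ZMod p → K) j)) = Pi.mulSingle i (cg u) := by
        funext j
        rcases eq_or_ne j i with rfl | hji
        · simp
        · simp [Pi.mulSingle_eq_of_ne hji]
      rw [e1, hP1, hP1]
      show g * (a ^ i.val * (u : Γ W) * (a ^ i.val)⁻¹) * g⁻¹ =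
        a ^ i.val * (g * (u : Γ W) * g⁻¹) * (a ^ i.val)⁻¹
      have hc := (commute_of_mem h.el hgA (hmem i)).eq
      rw [show g * (a ^ i.val * (u : Γ W) * (a ^ i.val)⁻¹) * g⁻¹ =
        (g * a ^ i.val) * (u : Γ W) * ((g * a ^ i.val))⁻¹ by group, hc]
      group
    have := DFunLike.congr_fun e (fun _ => k)
    rw [show k' = cg k from Subtype.ext ek]
    exact this
  have hδ : ∀ k, δ k ∈ fixer (com a) := h.delta_fixes δ hδa hgK hgc hδg hgf
  -- `a` is trivial on `[W, δ x]`
  set xK : K := ⟨x, hx⟩ with hxK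
  have hord : ∀ f : ZMod p → K, (∀ i, ∃ s : K, f i = s * xK * s⁻¹ ∨ f i = xK) →
      P f ^ orderOf x = 1 := by
    intro f hf
    rw [← map_pow]
    refine (congrArg P (funext fun i => ?_)).trans (map_one P)
    have hxx : xK ^ orderOf x = 1 := Subtype.ext hxord
    obtain ⟨s, e | e⟩ := hf i
    · rw [Pi.pow_apply, e, conj_pow, hxx, mul_one, mul_inv_cancel, Pi.one_apply]
    · rw [Pi.pow_apply, e, hxx, Pi.one_apply]
  have hax : a ∈ fixer (com (δ xK)) := by
    intro u hu
    have h1 : a • u - u ∈ com (δ xK) :=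
      AddSubgroup.sub_mem _ (smul_mem_com (hδa xK).symm hu) hu
    have h2 : δ xK • (a • u - u) = a • u - u := hδ xK _ (com_mem a u)
    exact sub_eq_zero.1 (eq_zero_of_fixed_com hp (hord _ fun i => ⟨1, Or.inr rfl⟩) hxp h1 h2)
  let z : ZMod p → ZMod p → Γ W := fun i l => φ i xK * (φ l xK)⁻¹
  have hzfix : ∀ i l, z i l ∈ fixer (com (δ xK)) := by
    intro i l u hu
    have hci : ∀ j, ∀ w ∈ com (δ xK), φ j xK • w ∈ com (δ xK) := fun j w hw => by
      refine smul_mem_com ?_ hw
      rw [← hP1]
      refine Commute.map (funext fun m => ?_) P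
      show (Pi.mulSingle j xK : ZMod p → K) m * xK = xK * (Pi.mulSingle j xK : ZMod p → K) m
      rcases eq_or_ne m j with rfl | hm
      · simp
      · simp [Pi.mulSingle_eq_of_ne hm]
    have hshiftx : φ l xK = a ^ (l - i).val * φ i xK * (a ^ (l - i).val)⁻¹ := by
      show a ^ l.val * x * (a ^ l.val)⁻¹ = _ * (a ^ i.val * x * (a ^ i.val)⁻¹) * _
      conv_lhs => rw [show l = (l - i) + i by abel, zmod_pow_add hap]
      group
    have hapow : a ^ (l - i).val ∈ fixer (com (δ xK)) := (fixer _).pow_mem hax _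
    have heq : ∀ w ∈ com (δ xK), φ l xK • w = φ i xK • w := fun w hw => by
      rw [hshiftx, mul_smul, mul_smul, ((fixer _).inv_mem hapow) _ hw, hapow _ (hci i w hw)]
    have hinv : (φ l xK)⁻¹ • u ∈ com (δ xK) := by
      refine smul_mem_com ?_ hu
      refine Commute.inv_left ?_
      rw [← hP1]
      refine Commute.map (funext fun m => ?_) P
      show (Pi.mulSingle l xK : ZMod p → K) m * xK = xK * (Pi.mulSingle l xK : ZMod p → K) m
      rcases eq_or_ne m l with rfl | hm
      · simp
      · simp [Pi.mulSingle_eq_of_ne hm]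
    show (φ i xK * (φ l xK)⁻¹) • u = u
    rw [mul_smul, ← heq _ hinv, smul_inv_smul]
  have hKtriv : ∀ i l j, j ≠ i → j ≠ l → ∀ k : K, φ j k ∈ fixer (com (z i l)) := by
    intro i l j hji hjl
    have hzc : ∀ k, Commute (φ j k) (z i l) := fun k =>
      ((hφc hji k xK).mul_right (hφc hjl k xK).inv_right)
    have hzP : z i l = P (Pi.mulSingle i xK * (Pi.mulSingle l xK)⁻¹) := by
      rw [map_mul, map_inv, hP1, hP1]
    have hy : ∀ s : K, P (Function.update (fun _ => xK) j (s * xK * s⁻¹)) ∈ fixer (com (z i l)) := by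
      intro s u hu
      set f := Function.update (fun _ => xK) j (s * xK * s⁻¹) with hf
      have hconj : P f = φ j s * δ xK * (φ j s)⁻¹ := by
        rw [← hP1, ← map_inv]
        show P f = P (Pi.mulSingle j s) * P (fun _ => xK) * P _
        rw [← map_mul, ← map_mul]
        congr 1
        funext m
        rcases eq_or_ne m j with rfl | hm
        · simp [hf]
        · simp [hf, Pi.mulSingle_eq_of_ne hm, Function.update_of_ne hm]
      have hcz : Commute (P f) (z i l) := by
        rw [hzP]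
        refine Commute.map (funext fun m => ?_) P
        show f m * ((Pi.mulSingle i xK : ZMod p → K) m * ((Pi.mulSingle l xK : ZMod p → K) m)⁻¹) =
          ((Pi.mulSingle i xK : ZMod p → K) m * ((Pi.mulSingle l xK : ZMod p → K) m)⁻¹) * f m
        rcases eq_or_ne m j with rfl | hm
        · simp [Pi.mulSingle_eq_of_ne hji, Pi.mulSingle_eq_of_ne hjl]
        · simp only [hf, Function.update_of_ne hm, Pi.mulSingle_apply]
          split_ifs <;> simp
      have h1 : P f • u - u ∈ com (z i l) := AddSubgroup.sub_mem _ (smul_mem_com hcz hu) hu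
      have h2 : z i l • (P f • u - u) = P f • u - u := by
        have hm : (φ j s)⁻¹ • (P f • u - u) ∈ com (δ xK) := com_conj (h := φ j s) (by
          rw [← hconj]; exact com_mem _ _)
        have := hzfix i l _ hm
        rw [smul_smul, ← (hzc s).inv_left.eq, ← smul_smul, smul_left_cancel_iff] at this
        exact this
      refine sub_eq_zero.1 (eq_zero_of_fixed_com hp ?_ hxp h1 h2)
      rw [hzP, ← map_pow]
      refine (congrArg P (funext fun m => ?_)).trans (map_one P)
      have hxx : xK ^ orderOf x = 1 := Subtype.ext hxord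
      simp only [Pi.pow_apply, Pi.mul_apply, Pi.inv_apply, Pi.mulSingle_apply, Pi.one_apply]
      split_ifs <;> simp [hxx]
    set N := (fixer (com (z i l))).comap (φ j) with hN
    have hnorm : ∀ k ∈ K, ∀ n ∈ N.map K.subtype, n ∈ K → k * n * k⁻¹ ∈ N.map K.subtype := by
      rintro k hk _ ⟨n, hn, rfl⟩ -
      refine ⟨⟨k, hk⟩ * n * ⟨k, hk⟩⁻¹, ?_, rfl⟩
      rw [SetLike.mem_coe, hN, Subgroup.mem_comap, map_mul, map_mul, map_inv]
      exact fixer_com_conj (hzc _) hn
    have hmemN : ∀ s : K, ((xK⁻¹ * (s * xK * s⁻¹) : K) : Γ W) ∈ N.map K.subtype := by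
      intro s
      refine ⟨xK⁻¹ * (s * xK * s⁻¹), ?_, rfl⟩
      rw [SetLike.mem_coe, hN, Subgroup.mem_comap]
      have h1 := hy 1
      have h2 := hy s
      rw [one_mul, inv_one, mul_one] at h1
      have e : φ j (xK⁻¹ * (s * xK * s⁻¹)) = (P (Function.update (fun _ => xK) j xK))⁻¹ *
          P (Function.update (fun _ => xK) j (s * xK * s⁻¹)) := by
        rw [← map_inv, ← map_mul, ← hP1]
        congr 1
        funext m
        rcases eq_or_ne m j with rfl | hm
        · simp
        · simp [Pi.mulSingle_eq_of_ne hm, Function.update_of_ne hm]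
      rw [e]
      exact mul_mem (inv_mem h1) h2
    obtain ⟨s, hs⟩ : ∃ s : K,
        ((xK⁻¹ * (s * xK * s⁻¹) : K) : Γ W) ∉ Subgroup.centralizer (K : Set (Γ W)) := by
      by_contra hall
      push Not at hall
      apply hxc
      have hcen := h.centralizes_of_central (g := x) fun k hk => ?_
      · exact Subgroup.mem_centralizer_iff.2 fun y hy => (hcen y hy).symm
      have hin := hall ⟨k, hk⟩
      have hc := Subgroup.mem_centralizer_iff.1 hin
      have hz' : k⁻¹ * (x * k * x⁻¹) = x * (x⁻¹ * (k * x * k⁻¹))⁻¹ * x⁻¹ := by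
        have e1 : (x⁻¹ * (k * x * k⁻¹))⁻¹ = k * x⁻¹ * k⁻¹ * x := by group
        have e2 : k⁻¹ * (x⁻¹ * (k * x * k⁻¹))⁻¹ * k = x⁻¹ * (k⁻¹ * x * k) := by
          rw [e1]; group
        have e3 := hc k hk
        simp only [Subgroup.coe_mul, InvMemClass.coe_inv, hxK] at e3
        have e4 : k⁻¹ * (x⁻¹ * (k * x * k⁻¹))⁻¹ * k = (x⁻¹ * (k * x * k⁻¹))⁻¹ := by
          have : Commute k (x⁻¹ * (k * x * k⁻¹)) := e3
          rw [(this.inv_right.inv_left).eq, inv_mul_cancel_right]
        rw [← e4, e2]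
        have e5 : x * (x⁻¹ * (k⁻¹ * x * k)) * x⁻¹ = k⁻¹ * (x * k * x⁻¹) := by group
        rw [e5]
      rw [hz']
      refine ⟨K.mul_mem (K.mul_mem hx (K.inv_mem ?_)) (K.inv_mem hx), ?_⟩
      · exact K.mul_mem (K.inv_mem hx) (K.mul_mem (K.mul_mem hk hx) (K.inv_mem hk))
      · have hz'' := (Subgroup.centralizer (K : Set (Γ W))).inv_mem hin
        simp only [Subgroup.coe_mul, InvMemClass.coe_inv, hxK] at hz''
        rw [Subgroup.mem_centralizer_iff] at hz''
        refine Subgroup.mem_centralizer_iff.2 fun y hy => ?_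
        have h3 := hz'' x hx
        rw [h3, mul_inv_cancel_right]
        exact hz'' y hy
    have hle := h.normals_eq hnorm (xK⁻¹ * (s * xK * s⁻¹)).2 (hmemN s) hs
    intro k
    obtain ⟨k', hk', ek⟩ := hle k.2
    rwa [← K.subtype_injective ek]
  -- indices 0, 1 and the rest
  have h01 : (0 : ZMod p) ≠ 1 := zero_ne_one
  have hp3 : 3 ≤ p := by have := hpp.out.two_le; omega
  have h21 : (2 : ZMod p) ≠ 1 := by
    intro e
    have e' : (1 : ZMod p) + 1 = 1 + 0 := by rw [add_zero, one_add_one_eq_two, e]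
    exact one_ne_zero (add_left_cancel e')
  have h20 : (2 : ZMod p) ≠ 0 := by
    intro e
    have : p ∣ 2 := (ZMod.natCast_eq_zero_iff 2 p).1 (by exact_mod_cast e)
    have := Nat.le_of_dvd two_pos this
    omega
  set U := com (z 0 1) with hU
  have hzord : z 0 1 ^ orderOf x = 1 := by
    show (φ 0 xK * (φ 1 xK)⁻¹) ^ orderOf x = 1
    rw [(hφc h01 xK xK).inv_right.mul_pow, inv_pow, ← map_pow, ← map_pow,
      show xK ^ orderOf x = 1 from Subtype.ext hxord, map_one, map_one, inv_one, mul_one]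
  have hprod : ∀ u ∈ U, φ 0 xK • φ 1 xK • u = u := by
    intro u hu
    -- `δ x` fixes `U`, and the other factors fix it too
    have hd : δ xK ∈ fixer U := by
      intro u hu
      have hcz : Commute (δ xK) (z 0 1) := by
        refine Commute.mul_right ?_ (Commute.inv_right ?_) <;>
        · rw [← hP1]
          refine Commute.map (funext fun m => ?_) P
          show xK * _ = _ * xK
          simp only [Pi.mulSingle_apply]
          split_ifs <;> simp
      have h1 : δ xK • u - u ∈ U := AddSubgroup.sub_mem _ (smul_mem_com hcz hu) hu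
      exact sub_eq_zero.1 (eq_zero_of_fixed_com hp hzord hxp h1 (hzfix 0 1 _ (com_mem _ u)))
    have hf : (fun _ => xK : ZMod p → K) = Pi.mulSingle 0 xK * Pi.mulSingle 1 xK *
        ((Pi.mulSingle 0 xK * Pi.mulSingle 1 xK)⁻¹ * fun _ => xK) := by
      rw [mul_inv_cancel_left]
    have hrest : P ((Pi.mulSingle 0 xK * Pi.mulSingle 1 xK)⁻¹ * fun _ => xK) ∈ fixer U := by
      refine hPmem _ _ fun j => ?_
      rcases eq_or_ne j 0 with rfl | hj0
      · simp [Pi.mulSingle_eq_of_ne h01]
      · rcases eq_or_ne j 1 with rfl | hj1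
        · simp [Pi.mulSingle_eq_of_ne h01.symm]
        · exact hKtriv 0 1 j hj0 hj1 _
    have e := hd u hu
    rw [show δ xK = P (fun _ => xK) from rfl, hf, map_mul, map_mul, hP1, hP1, mul_smul, mul_smul,
      hrest u hu] at e
    exact e
  have hUbot : U = ⊥ := by
    refine eq_bot_iff.2 fun u hu => ?_
    have hc0 : ∀ w ∈ U, φ 0 xK • w ∈ U := fun w hw => smul_mem_com
      ((Commute.refl _).mul_right (hφc h01 xK xK).inv_right) hw
    have hx2 : φ 2 xK ∈ fixer U := hKtriv 0 1 2 h20 h21 xK
    set v := φ 0 xK • u - u with hv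
    have hvU : v ∈ U := AddSubgroup.sub_mem _ (hc0 u hu) hu
    have hv02 : v ∈ com (z 0 2) := by
      refine ⟨u, ?_⟩
      show (φ 0 xK * (φ 2 xK)⁻¹) • u - u = v
      rw [mul_smul, ((fixer U).inv_mem hx2) u hu]
    have hv1 : φ 1 xK • v = v := hKtriv 0 2 1 h01.symm h21.symm xK v hv02
    have hv0 : φ 0 xK • v = v := by
      have := hprod v hvU
      rwa [hv1] at this
    have hord0 : φ 0 xK ^ orderOf x = 1 := by
      rw [← map_pow, show xK ^ orderOf x = 1 from Subtype.ext hxord, map_one]
    have hv' : v = 0 := eq_zero_of_fixed_com hp hord0 hxp (com_mem _ u) hv0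
    have hu0 : φ 0 xK • u = u := sub_eq_zero.1 hv'
    have hu1 : φ 1 xK • u = u := by
      have := hprod u hu
      rw [← mul_smul, (hφc h01 xK xK).eq, mul_smul, hu0] at this
      exact this
    rw [AddSubgroup.mem_bot]
    refine eq_zero_of_fixed_com hp hzord hxp hu ?_
    show (φ 0 xK * (φ 1 xK)⁻¹) • u = u
    rw [mul_smul, inv_smul_eq_iff.2 hu1.symm, hu0]
  have hz1 : z 0 1 = 1 := eq_one_of_com hUbot
  apply hxc
  rw [Subgroup.mem_centralizer_iff]
  intro y hy
  have e : x = φ 1 xK := by
    have := mul_inv_eq_one.1 hz1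
    rw [← this]
    show x = a ^ (0 : ZMod p).val * x * (a ^ (0 : ZMod p).val)⁻¹
    simp
  refine (h.comm a ha hne y hy x ?_).eq
  rw [e]
  show a ^ (1 : ZMod p).val * x * (a ^ (1 : ZMod p).val)⁻¹ ∈ cj a K
  rw [h1, pow_one]
  exact conj_mem_cj hx

end CfsgLib.LocalEven.PGV
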