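import Mathlib
import Cfsg.Agent.Lib.LocalEven.PGV.Odd
import Cfsg.Agent.Lib.LocalEven.PGV.Irreducible

/-!
The P(G,V)-theorem: a best offender normalises every perfect subgroup all of whose proper normal
subgroups are central and whose distinct conjugates commute.
-/

set_option autoImplicit false

namespace CfsgLib.LocalEven.PGV

open scoped commutatorElement

universe v

variable {W : Type v} [AddCommGroup W] {p : ℕ} {A K : Subgroup (Γ W)}

/-- The A×B-lemma. -/
theorem eq_one_of_fix [Finite W] [Fact p.Prime] (hp : ∀ w : W, p • w = 0) {B : Subgroup (Γ W)}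
    (hB : Cfsg.IsElementaryAbelian p B) {x : Γ W} (hx : (orderOf x).Coprime p)
    (hc : ∀ b ∈ B, Commute b x) (hfix : x ∈ fixer (fix B)) : x = 1 := by
  by_contra hne
  obtain ⟨u, hu, hu0, huB⟩ := exists_fixed hp B hB (com x) (fun q => hne (eq_one_of_com q))
    (fun b hb u hu => smul_mem_com (hc b hb) hu)
  exact hu0 (eq_zero_of_fixed_com hp (pow_orderOf_eq_one x) hx hu (hfix u huB))

/-- An element normalising but not centralising `K` and fixing `[W, a]` gives the relation. -/
theorem Setup.rel_of_fixer [Finite W] (h : Setup 2 A K) {a g : Γ W} (ha : a ∈ A) (hne : cj a K ≠ K)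
    (hg : g ∈ A) (hgK : cj g K = K) (hgc : ¬ ∀ k ∈ K, g * k = k * g) (hgf : g ∈ fixer (com a)) :
    ∀ k ∈ K, k * (a * k * a⁻¹) ∈ fixer (com a) := by
  have hcm : ∀ k l : K, Commute (k : Γ W) (a * (l : Γ W) * a⁻¹) := fun k l =>
    h.comm a ha hne k k.2 _ (conj_mem_cj l.2)
  let δ : K →* Γ W :=
    { toFun := fun k => (k : Γ W) * (a * (k : Γ W) * a⁻¹)
      map_one' := by simp
      map_mul' := fun k l => by
        rw [Subgroup.coe_mul]
        calc (k : Γ W) * l * (a * (k * l) * a⁻¹)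
            = (k : Γ W) * ((l : Γ W) * (a * k * a⁻¹)) * (a * l * a⁻¹) := by group
          _ = (k : Γ W) * ((a * k * a⁻¹) * (l : Γ W)) * (a * l * a⁻¹) := by rw [(hcm l k).eq]
          _ = _ := by group }
  intro k hk
  refine h.delta_fixes (a := a) δ (fun k => ?_) hgK hgc ?_ hgf ⟨k, hk⟩
  · show (k : Γ W) * (a * k * a⁻¹) * a = a * ((k : Γ W) * (a * k * a⁻¹))
    have haa : a * a = 1 := by rw [← pow_two]; exact h.el.2 a ha
    calc (k : Γ W) * (a * k * a⁻¹) * a = k * a * k := by group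
      _ = (a * a) * k * a⁻¹ * k := by rw [haa, inv_eq_self h.el ha, one_mul]
      _ = a * ((a * k * a⁻¹) * k) := by group
      _ = _ := by rw [(hcm k k).eq]
  · intro k k' e
    show g * ((k : Γ W) * (a * k * a⁻¹)) * g⁻¹ = (k' : Γ W) * (a * k' * a⁻¹)
    rw [e]
    have hga := commute_of_mem h.el hg ha
    calc g * ((k : Γ W) * (a * k * a⁻¹)) * g⁻¹
        = g * k * g⁻¹ * ((g * a) * k * (g * a)⁻¹) := by group
      _ = g * k * g⁻¹ * ((a * g) * k * (a * g)⁻¹) := by rw [hga.eq]
      _ = _ := by group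

/-- An element fixing `[W, a]` and moving `K` outside the pair gives the relation. -/
theorem Setup.rel_of_third [Finite W] (h : Setup 2 A K) {a g : Γ W} (ha : a ∈ A) (hne : cj a K ≠ K)
    (hg : g ∈ A) (hgK : cj g K ≠ K) (hga : cj g K ≠ cj a K) (hgf : g ∈ fixer (com a)) :
    ∀ k ∈ K, k * (a * k * a⁻¹) ∈ fixer (com a) := by
  have hai := inv_eq_self h.el ha
  have haa : a * a = 1 := by rw [← pow_two]; exact h.el.2 a ha
  have hcm : ∀ k ∈ K, ∀ l ∈ K, Commute k (a * l * a⁻¹) := fun k hk l hl =>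
    h.comm a ha hne k hk _ (conj_mem_cj hl)
  let d : Γ W → Γ W := fun k => k * (a * k * a⁻¹)
  have dmul : ∀ k ∈ K, ∀ l ∈ K, d (k * l) = d k * d l := fun k hk l hl => by
    show k * l * (a * (k * l) * a⁻¹) = k * (a * k * a⁻¹) * (l * (a * l * a⁻¹))
    calc k * l * (a * (k * l) * a⁻¹) = k * (l * (a * k * a⁻¹)) * (a * l * a⁻¹) := by group
      _ = k * ((a * k * a⁻¹) * l) * (a * l * a⁻¹) := by rw [(hcm l hl k hk).eq]
      _ = _ := by group
  have done : d 1 = 1 := by simp [d]
  have dinv : ∀ k ∈ K, d k⁻¹ = (d k)⁻¹ := fun k hk => by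
    refine eq_inv_of_mul_eq_one_left ?_
    rw [← dmul _ (K.inv_mem hk) k hk, inv_mul_cancel, done]
  have dca : ∀ k ∈ K, Commute (d k) a := fun k hk => by
    show k * (a * k * a⁻¹) * a = a * (k * (a * k * a⁻¹))
    calc k * (a * k * a⁻¹) * a = k * a * k := by group
      _ = (a * a) * k * a⁻¹ * k := by rw [haa, hai, one_mul]
      _ = a * ((a * k * a⁻¹) * k) := by group
      _ = _ := by rw [(hcm k hk k hk).eq]
  have hgaK : cj (g * a) K ≠ K := fun q => hga (by
    have := congrArg (cj a) q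
    rw [← cj_mul, ← mul_assoc, (commute_of_mem h.el ha hg).eq, mul_assoc, haa, mul_one] at this
    exact this)
  have hgaa : cj (g * a) K ≠ cj a K := fun q => hgK (by
    have := congrArg (cj a) q
    rw [← cj_mul, ← cj_mul, ← mul_assoc, (commute_of_mem h.el ha hg).eq, mul_assoc, haa, mul_one,
      cj_one] at this
    exact this)
  have hcross : ∀ k ∈ K, ∀ l ∈ K, Commute (d l) (g * d k * g⁻¹) := by
    intro k hk l hl
    have e : g * d k * g⁻¹ = (g * k * g⁻¹) * ((g * a) * k * (g * a)⁻¹) := by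
      show g * (k * (a * k * a⁻¹)) * g⁻¹ = _
      group
    rw [e]
    have c0 := conj_mem_cj (c := g) hk
    have c1 := conj_mem_cj (c := g * a) hk
    refine (Commute.mul_left ?_ ?_).mul_right (Commute.mul_left ?_ ?_)
    · exact (h.comm g hg hgK l hl _ c0)
    · exact h.commute_members ha hg hga.symm (conj_mem_cj hl) c0
    · exact h.comm _ (A.mul_mem hg ha) hgaK l hl _ c1
    · exact h.commute_members ha (A.mul_mem hg ha) hgaa.symm (conj_mem_cj hl) c1
  let F : Subgroup (Γ W) :=
    { carrier := {k | k ∈ K ∧ d k ∈ fixer (com a)}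
      mul_mem' := fun {k l} hk hl => ⟨K.mul_mem hk.1 hl.1, by
        rw [dmul k hk.1 l hl.1]; exact mul_mem hk.2 hl.2⟩
      one_mem' := ⟨K.one_mem, by rw [done]; exact one_mem _⟩
      inv_mem' := fun {k} hk => ⟨K.inv_mem hk.1, by rw [dinv k hk.1]; exact inv_mem hk.2⟩ }
  have hle : ⁅K, K⁆ ≤ F := by
    rw [Subgroup.commutator_le]
    intro k hk l hl
    refine ⟨K.mul_mem (K.mul_mem (K.mul_mem hk hl) (K.inv_mem hk)) (K.inv_mem hl), ?_⟩
    have hE : ∀ x ∈ K, (d x)⁻¹ * (g * d x * g⁻¹) ∈ fixer (com a) := fun x hx => by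
      rw [← mul_assoc, ← mul_assoc]
      refine mul_mem ?_ (inv_mem hgf)
      have := fixer_com_conj (dca x hx).inv_left hgf
      rwa [inv_inv] at this
    have h1 := hE k⁻¹ (K.inv_mem hk)
    have h2 := fixer_com_conj (dca l hl) h1
    have e : d ⁅k, l⁆ = ((d k⁻¹)⁻¹ * (g * d k⁻¹ * g⁻¹)) *
        (d l * ((d k⁻¹)⁻¹ * (g * d k⁻¹ * g⁻¹)) * (d l)⁻¹)⁻¹ := by
      rw [commutatorElement_def, dmul _ (K.mul_mem (K.mul_mem hk hl) (K.inv_mem hk)) _ (K.inv_mem hl),
        dmul _ (K.mul_mem hk hl) _ (K.inv_mem hk), dmul _ hk _ hl, dinv l hl, dinv k hk, inv_inv]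
      have c := hcross k⁻¹ (K.inv_mem hk) l hl
      rw [dinv k hk] at c
      calc d k * d l * (d k)⁻¹ * (d l)⁻¹
          = d k * ((g * (d k)⁻¹ * g⁻¹) * (g * (d k)⁻¹ * g⁻¹)⁻¹) * d l * (d k)⁻¹ * (d l)⁻¹ := by group
        _ = d k * (g * (d k)⁻¹ * g⁻¹) * ((g * (d k)⁻¹ * g⁻¹)⁻¹ * d l) * (d k)⁻¹ * (d l)⁻¹ := by group
        _ = d k * (g * (d k)⁻¹ * g⁻¹) * (d l * (g * (d k)⁻¹ * g⁻¹)⁻¹) * (d k)⁻¹ * (d l)⁻¹ := by
          rw [c.inv_right.eq]
        _ = _ := by group
    rw [e]
    exact mul_mem h1 (inv_mem h2)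
  rw [h.perfect] at hle
  exact fun k hk => (hle hk).2

/-- Two conjugates and a normaliser centralising `K` are impossible. -/
theorem false_of_transvection [Finite W] (hp : ∀ w : W, 2 • w = 0) (h : Setup 2 A K) (hbest : Best A)
    {a : Γ W} (ha : a ∈ A) (hne : cj a K ≠ K)
    (hcen : ∀ b ∈ A, cj b K = K → ∀ k ∈ K, b * k = k * b)
    (htwo : ∀ c ∈ A, cj c K = K ∨ cj c K = cj a K) : False := by
  classical
  haveI : Fact (Nat.Prime 2) := ⟨Nat.prime_two⟩
  have haa : a * a = 1 := by rw [← pow_two]; exact h.el.2 a ha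
  let B : Subgroup (Γ W) :=
    { carrier := {b | b ∈ A ∧ cj b K = K}
      mul_mem' := fun {b c} hb hc => ⟨A.mul_mem hb.1 hc.1, by rw [cj_mul, hc.2, hb.2]⟩
      one_mem' := ⟨A.one_mem, cj_one⟩
      inv_mem' := fun {b} hb => ⟨A.inv_mem hb.1, by
        conv_lhs => rw [← hb.2, ← cj_mul, inv_mul_cancel, cj_one]⟩ }
  have hBA : B ≤ A := fun b hb => hb.1
  have hmulB : ∀ c ∈ A, cj c K ≠ K → a * c ∈ B := fun c hc q => ⟨A.mul_mem ha hc, by
    rcases htwo c hc with q' | q'
    · exact absurd q' q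
    · rw [cj_mul, q', ← cj_mul, haa, cj_one]⟩
  have hAB : Nat.card A ≤ 2 * Nat.card B := by
    let g : A → Bool × B := fun c =>
      if q : cj (c : Γ W) K = K then (true, ⟨c, c.2, q⟩) else (false, ⟨a * c, hmulB c c.2 q⟩)
    have ginj : Function.Injective g := by
      intro c d e
      simp only [g] at e
      split_ifs at e with q1 q2 q2
      · exact Subtype.ext (congrArg (fun t : Bool × B => (t.2 : Γ W)) e)
      · exact absurd (congrArg Prod.fst e) (by simp)
      · exact absurd (congrArg Prod.fst e) (by simp)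
      · exact Subtype.ext (mul_left_cancel (congrArg (fun t : Bool × B => (t.2 : Γ W)) e))
    refine (Nat.card_le_card_of_injective g ginj).trans (le_of_eq ?_)
    rw [Nat.card_prod]; simp
  have hBK : ∀ b ∈ B, ∀ k ∈ K, Commute b k := fun b hb k hk => hcen b hb.1 hb.2 k hk
  set U := fix B with hU
  have haU : ∀ u ∈ U, a • u ∈ U := fun u hu b hb => by
    rw [smul_smul, (commute_of_mem h.el (hBA hb) ha).eq, mul_smul, hu b hb]
  have hKU : ∀ k ∈ K, ∀ u ∈ U, k • u ∈ U := fun k hk u hu b hb => by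
    rw [smul_smul, (hBK b hb k hk).eq, mul_smul, hu b hb]
  -- the fixed space of `a` in `U` has index at most two
  let Ua : AddSubgroup W :=
    { carrier := {u | u ∈ U ∧ a • u = u}
      add_mem' := fun {u v} hu hv => ⟨add_mem hu.1 hv.1, by rw [smul_add, hu.2, hv.2]⟩
      zero_mem' := ⟨zero_mem _, smul_zero a⟩
      neg_mem' := fun {u} hu => ⟨neg_mem hu.1, by rw [smul_neg, hu.2]⟩ }
  have hUle : Nat.card U ≤ 2 * Nat.card Ua := by
    have hle : fix A ≤ Ua := fun w hw => ⟨fix_mono hBA hw, hw a ha⟩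
    have h1 : Nat.card B * Nat.card U ≤ Nat.card B * (2 * Nat.card (fix A)) := by
      refine (hbest B hBA).trans ?_
      calc Nat.card A * Nat.card (fix A) ≤ 2 * Nat.card B * Nat.card (fix A) := Nat.mul_le_mul_right _ hAB
        _ = _ := by ring
    exact (Nat.le_of_mul_le_mul_left h1 Nat.card_pos).trans
      (Nat.mul_le_mul_left _ (AddSubgroup.card_le_of_le hle))
  have hUaU : Ua ≤ U := fun u hu => hu.1
  have hsum : ∀ u ∈ U, u ∉ Ua → ∀ v ∈ U, v ∉ Ua → u + v ∈ Ua := by
    intro u hu hu' v hv hv'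
    have hidx : (Ua.addSubgroupOf U).index ≤ 2 := by
      have := AddSubgroup.card_mul_index (Ua.addSubgroupOf U)
      rw [Nat.card_congr (AddSubgroup.addSubgroupOfEquivOfLe hUaU).toEquiv] at this
      rw [← this] at hUle
      exact Nat.le_of_mul_le_mul_left (by rw [mul_comm 2] at hUle; exact hUle) Nat.card_pos
    have hidx2 : (Ua.addSubgroupOf U).index = 2 := by
      have h0 : (Ua.addSubgroupOf U).index ≠ 0 := AddSubgroup.index_ne_zero_of_finite
      have h1 : (Ua.addSubgroupOf U).index ≠ 1 := fun q => hu'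
        ((AddSubgroup.addSubgroupOf_eq_top).1 (AddSubgroup.index_eq_one.1 q) hu)
      omega
    have := (AddSubgroup.add_mem_iff_of_index_two hidx2 (a := ⟨u, hu⟩) (b := ⟨v, hv⟩)).2
      (iff_of_false hu' hv')
    exact this
  -- `k⁻¹ (a k a⁻¹)` has order dividing 24 on `U`
  have h24 : ∀ k ∈ K, (k⁻¹ * (a * k * a⁻¹)) ^ 24 ∈ fixer U := by
    intro k hk
    have hkU : ∀ u ∈ U, k⁻¹ • u ∈ U := hKU _ (K.inv_mem hk)
    have hai := inv_eq_self h.el ha
    let H : AddSubgroup W :=
      { carrier := {u | u ∈ Ua ∧ k • u ∈ Ua}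
        add_mem' := fun {u v} hu hv => ⟨add_mem hu.1 hv.1, by rw [smul_add]; exact add_mem hu.2 hv.2⟩
        zero_mem' := ⟨zero_mem _, by rw [smul_zero]; exact zero_mem _⟩
        neg_mem' := fun {u} hu => ⟨neg_mem hu.1, by rw [smul_neg]; exact neg_mem hu.2⟩ }
    set g := k⁻¹ * (a * k * a⁻¹) with hg
    have hgH : ∀ u ∈ H, g • u = u := by
      intro u hu
      rw [hg, hai, mul_smul, mul_smul, mul_smul, hu.1.2, hu.2.2, inv_smul_smul]
    have hgU : ∀ u ∈ U, g • u ∈ U := fun u hu => by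
      rw [hg, hai, mul_smul, mul_smul, mul_smul]
      exact hkU _ (haU _ (hKU k hk _ (haU u hu)))
    have hpowU : ∀ n : ℕ, ∀ u ∈ U, (g ^ n) • u ∈ U := by
      intro n
      induction n with
      | zero => intro u hu; rwa [pow_zero, one_smul]
      | succ n ih => intro u hu; rw [pow_succ', mul_smul]; exact hgU _ (ih u hu)
    have hpowH : ∀ n : ℕ, ∀ u ∈ H, (g ^ n) • u = u := by
      intro n
      induction n with
      | zero => intro u _; rw [pow_zero, one_smul]
      | succ n ih => intro u hu; rw [pow_succ', mul_smul, ih u hu, hgH u hu]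
    -- the class of a point modulo `H`
    let cls : W → Prop × Prop := fun u => (u ∈ Ua, k • u ∈ Ua)
    have hcls : ∀ u ∈ U, ∀ v ∈ U, cls u = cls v → u + v ∈ H := by
      intro u hu v hv e
      obtain ⟨e1, e2⟩ := Prod.ext_iff.1 e
      simp only [eq_iff_iff, cls] at e1 e2
      constructor
      · by_cases q : u ∈ Ua
        · exact add_mem q (e1.1 q)
        · exact hsum u hu q v hv (fun q' => q (e1.2 q'))
      · rw [smul_add]
        by_cases q : k • u ∈ Ua
        · exact add_mem q (e2.1 q)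
        · exact hsum _ (hKU k hk u hu) q _ (hKU k hk v hv) (fun q' => q (e2.2 q'))
    have h12 : ∀ u ∈ U, (g ^ 12) • u + u ∈ H := by
      intro u hu
      obtain ⟨i, j, hij, e⟩ := Fintype.exists_ne_map_eq_of_card_lt
        (fun i : Fin 5 => cls ((g ^ (i : ℕ)) • u)) (by simp)
      wlog hlt : (i : ℕ) < j generalizing i j
      · exact this j i hij.symm e.symm (by omega)
      obtain ⟨m, hm⟩ : ∃ m, (j : ℕ) = i + m := ⟨j - i, by omega⟩
      have hm1 : 1 ≤ m := by omega
      have hm4 : m ≤ 4 := by omega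
      have hH : (g ^ (i : ℕ)) • ((g ^ m) • u + u) ∈ H := by
        rw [smul_add, smul_smul, ← pow_add, ← hm]
        exact hcls _ (hpowU _ u hu) _ (hpowU _ u hu) e.symm
      have hmH : (g ^ m) • u + u ∈ H := by
        have : (g ^ (i : ℕ)) • ((g ^ (i : ℕ)) • ((g ^ m) • u + u)) =
            (g ^ (i : ℕ)) • ((g ^ m) • u + u) := hpowH _ _ hH
        rwa [(smul_left_cancel_iff (g ^ (i : ℕ))).1 this] at hH
      have hiter : ∀ t : ℕ, (g ^ (m * t)) • u + u ∈ H := by
        intro t
        induction t with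
        | zero => rw [mul_zero, pow_zero, one_smul, two_eq_zero' hp]; exact zero_mem _
        | succ t ih =>
          have h3 := hpowH (m * t) _ hmH
          rw [smul_add, smul_smul, ← pow_add, ← Nat.mul_succ] at h3
          have h4 : (g ^ (m * (t + 1))) • u + u =
              ((g ^ m) • u + u) + ((g ^ (m * t)) • u + u) := by
            rw [← h3, add_assoc, ← add_assoc ((g ^ (m * t)) • u) ((g ^ (m * t)) • u), two_eq_zero' hp,
              zero_add]
          rw [h4]
          exact add_mem hmH ih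
      interval_cases m
      · exact hiter 12
      · exact hiter 6
      · exact hiter 4
      · exact hiter 3
    intro u hu
    have h3 := hpowH 12 _ (h12 u hu)
    rw [smul_add, smul_smul, ← pow_add, add_comm ((g ^ 12) • u) u] at h3
    exact add_right_cancel h3
  obtain ⟨x, hx, hxc, hx2, hx3⟩ := h.exists_noncentral Nat.prime_two Nat.prime_three
  obtain ⟨y, hy, hyx⟩ : ∃ y ∈ K, y ^ 24 = x := by
    have hcop : Nat.Coprime 24 (orderOf x) := by
      rw [show (24 : ℕ) = 2 ^ 3 * 3 by norm_num, Nat.coprime_mul_iff_left]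
      exact ⟨(hx2.symm).pow_left 3, hx3.symm⟩
    obtain ⟨t, ht⟩ := exists_pow_eq_self_of_coprime hcop
    exact ⟨x ^ t, K.pow_mem hx t, by rw [← pow_mul, mul_comm, pow_mul]; exact ht⟩
  have hagree : x⁻¹ * (a * x * a⁻¹) ∈ fixer U := by
    have := h24 y hy
    rwa [((h.comm a ha hne y⁻¹ (K.inv_mem hy) _ (conj_mem_cj hy))).mul_pow, inv_pow, conj_pow,
      hyx] at this
  have hcen' : ∀ z ∈ K, x⁻¹ * (z * x * z⁻¹) ∈ fixer U := by
    intro z hz u hu
    have hz' : z⁻¹ • u ∈ U := hKU _ (K.inv_mem hz) u hu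
    have hc : Commute z (a * x * a⁻¹) := h.comm a ha hne z hz _ (conj_mem_cj hx)
    have e1 : ∀ v ∈ U, (a * x * a⁻¹) • v = x • v := fun v hv => by
      have := hagree v hv
      rw [mul_smul, inv_smul_eq_iff] at this
      exact this
    rw [mul_smul, inv_smul_eq_iff, mul_smul, mul_smul, ← e1 _ hz', smul_smul, hc.eq, mul_smul,
      smul_inv_smul, e1 u hu]
  have hnorm : ∀ k ∈ K, ∀ n ∈ fixer U, n ∈ K → k * n * k⁻¹ ∈ fixer U := fun k hk n hn _ u hu => by
    rw [mul_smul, mul_smul, hn _ (hKU _ (K.inv_mem hk) u hu), smul_inv_smul]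
  have hxnot : x ∉ fixer U := fun q => by
    have := eq_one_of_fix hp (el_mono h.el hBA) hx2 (fun b hb => hBK b hb x hx) q
    exact hxc (this ▸ one_mem _)
  obtain ⟨z, hz, hzc⟩ : ∃ z ∈ K, x⁻¹ * (z * x * z⁻¹) ∉ Subgroup.centralizer (K : Set (Γ W)) := by
    by_contra hall
    push Not at hall
    apply hxc
    have hcc := h.centralizes_of_central (g := x) fun z hz => ?_
    · exact Subgroup.mem_centralizer_iff.2 fun w hw => (hcc w hw).symm
    refine ⟨K.mul_mem (K.inv_mem hz) (K.mul_mem (K.mul_mem hx hz) (K.inv_mem hx)), ?_⟩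
    set C := Subgroup.centralizer (K : Set (Γ W))
    have hconj : ∀ s ∈ K, ∀ n ∈ C, s * n * s⁻¹ ∈ C := fun s hs n hn => by
      rw [Subgroup.mem_centralizer_iff.1 hn s hs, mul_inv_cancel_right]; exact hn
    have h1 := hconj x hx _ (hall z⁻¹ (K.inv_mem hz))
    rw [show x * (x⁻¹ * (z⁻¹ * x * z⁻¹⁻¹)) * x⁻¹ = z⁻¹ * (x * z * x⁻¹) by group] at h1
    exact h1
  have hle := h.normals_eq (N := fixer U) hnorm
    (K.mul_mem (K.inv_mem hx) (K.mul_mem (K.mul_mem hz hx) (K.inv_mem hz))) (hcen' z hz) hzc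
  exact hxnot (hle hx)

/-- The reduction of the relation case to the irreducible one. -/
theorem false_of_rel [Finite W] (hp : ∀ w : W, 2 • w = 0) (h : Setup 2 A K) (hbest : Best A)
    (hrel : Rel A K) {a : Γ W} (ha : a ∈ A) (hne : cj a K ≠ K) : False := by
  classical
  haveI : Fact (Nat.Prime 2) := ⟨Nat.prime_two⟩
  -- a minimal invariant subgroup on which `K` acts nontrivially
  have hex : ∃ n, ∃ U : AddSubgroup W, Inv A K U ∧ ¬ U ≤ fix K ∧ Nat.card U = n := by
    refine ⟨_, ⊤, ⟨fun _ _ _ _ => AddSubgroup.mem_top _, fun _ _ _ _ => AddSubgroup.mem_top _⟩, ?_, rfl⟩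
    intro q
    exact h.ne ((Subgroup.eq_bot_iff_forall _).2 fun k hk =>
      ext_smul fun w => by rw [q (AddSubgroup.mem_top w) k hk, one_smul])
  obtain ⟨U, hU, hUK, hUmin⟩ := Nat.find_spec hex
  have hmin : ∀ V : AddSubgroup W, Inv A K V → V ≤ U → ¬ V ≤ fix K → V = U := fun V hV hVU hVK =>
    AddSubgroup.eq_of_le_of_card_ge hVU (hUmin ▸ Nat.find_le ⟨V, hV, hVK, rfl⟩)
  have hAS : A ≤ stab U := fun c hc => mem_stab (hU.2 c hc)
  have hKS : K ≤ stab U := fun k hk => mem_stab (hU.1 k hk)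
  have hnt : ∃ k : stab U, (k : Γ W) ∈ K ∧ res U k ≠ 1 := by
    by_contra hall
    push Not at hall
    refine hUK fun u hu k hk => ?_
    have := congrArg Subtype.val (show res U ⟨k, hKS hk⟩ • (⟨u, hu⟩ : U) = ⟨u, hu⟩ by
      rw [hall ⟨k, hKS hk⟩ hk, one_smul])
    rw [res_smul] at this
    exact this
  set A1 := img (res U) A with hA1
  set K1 := img (res U) K with hK1
  have h1 : Setup 2 A1 K1 := h.map (stab U) (res U) hAS hKS hnt
  have hrel1 : Rel A1 K1 := hrel.res U
  have hp1 : ∀ u : U, 2 • u = 0 := fun u => Subtype.ext (hp u.1)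
  have hmove1 : cj (res U ⟨a, hAS ha⟩) K1 ≠ K1 := fun q => hne
    (h.normalizes_of_map (stab U) (res U) hAS hKS hnt (a := ⟨a, hAS ha⟩) ha ((h1.cj_eq_iff).1 q))
  have hoff1 : Nat.card U ≤ Nat.card A1 * Nat.card (fix A1) := by
    set B := A ⊓ fixer U with hB
    have hcA := card_img (res U) hAS
    have hker : Nat.card ↥((res U).ker ⊓ A.subgroupOf (stab U)) = Nat.card B := by
      refine Nat.card_congr
        { toFun := fun x => ⟨x.1.1, x.2.2, fun u hu => by
            have := congrArg Subtype.val (show res U x.1 • (⟨u, hu⟩ : U) = ⟨u, hu⟩ by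
              rw [(MonoidHom.mem_ker).1 x.2.1, one_smul])
            rw [res_smul] at this
            exact this⟩
          invFun := fun b => ⟨⟨b.1, hAS b.2.1⟩, MonoidHom.mem_ker.2 (ext_smul fun u => Subtype.ext (by
            rw [res_smul, one_smul]; exact b.2.2 u.1 u.2)), b.2.1⟩
          left_inv := fun x => rfl
          right_inv := fun b => rfl }
    rw [hker] at hcA
    have hb := hbest B inf_le_left
    have hsup : U ⊔ fix A ≤ fix B := sup_le (le_fix_iff.2 inf_le_right) (fix_mono inf_le_left)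
    have hc := addCard_mul U (fix A)
    have hinf : Nat.card ↥(U ⊓ fix A) ≤ Nat.card (fix A1) := by
      refine Nat.card_le_card_of_injective (fun w => ⟨⟨w.1, w.2.1⟩, ?_⟩)
        (fun v w e => Subtype.ext (congrArg (fun t : fix A1 => t.1.1) e))
      rintro _ ⟨c, hc', rfl⟩
      exact Subtype.ext (by rw [res_smul]; exact w.2.2 _ hc')
    refine Nat.le_of_mul_le_mul_left ?_
      (Nat.mul_pos (Nat.card_pos (α := B)) (Nat.card_pos (α := fix A)))
    calc Nat.card B * Nat.card (fix A) * Nat.card U = Nat.card B * (Nat.card U * Nat.card (fix A)) := by ring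
      _ = Nat.card B * Nat.card ↥(U ⊔ fix A) * Nat.card ↥(U ⊓ fix A) := by rw [hc]; ring
      _ ≤ (Nat.card B * Nat.card (fix B)) * Nat.card (fix A1) :=
          Nat.mul_le_mul (Nat.mul_le_mul_left _ (AddSubgroup.card_le_of_le hsup)) hinf
      _ ≤ (Nat.card A * Nat.card (fix A)) * Nat.card (fix A1) := Nat.mul_le_mul_right _ hb
      _ = _ := by rw [hcA]; ring
  have hmin1 : ∀ V : AddSubgroup U, Inv A1 K1 V → V = ⊤ ∨ V ≤ fix K1 := by
    intro V hV
    by_cases q : V.map U.subtype ≤ fix K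
    · right
      intro u hu
      rintro _ ⟨k, hk, rfl⟩
      exact Subtype.ext (by rw [res_smul]; exact q ⟨u, hu, rfl⟩ _ hk)
    · left
      have e := hmin (V.map U.subtype) ⟨?_, ?_⟩ (by rintro _ ⟨u, -, rfl⟩; exact u.2) q
      · rw [eq_top_iff]
        intro u _
        obtain ⟨u', hu', e'⟩ : u.1 ∈ V.map U.subtype := e.symm ▸ u.2
        rwa [← Subtype.ext e']
      · rintro k hk _ ⟨u, hu, rfl⟩
        exact ⟨_, hV.1 _ (mem_img (res U) (x := ⟨k, hKS hk⟩) hk) u hu, res_smul U ⟨k, hKS hk⟩ u⟩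
      · rintro c hc _ ⟨u, hu, rfl⟩
        exact ⟨_, hV.2 _ (mem_img (res U) (x := ⟨c, hAS hc⟩) hc) u hu, res_smul U ⟨c, hAS hc⟩ u⟩
  -- pass to the quotient by the fixed space
  set U0 := fix (Lsup A1 K1) with hU0
  have hI0 : Inv A1 K1 U0 := inv_fix_Lsup
  have hAS2 : A1 ≤ stab U0 := fun c hc => mem_stab (hI0.2 c hc)
  have hKS2 : K1 ≤ stab U0 := fun k hk => mem_stab (hI0.1 k hk)
  have hU0K : ∀ u ∈ U0, ∀ k ∈ K1, k • u = u := fun u hu k hk => fix_Lsup_le_fix hu k hk
  have hnotall : ¬ ∀ k ∈ K1, ∀ u : U, k • u - u ∈ U0 := by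
    intro hall
    refine h1.not_abelian fun k hk => Subgroup.mem_centralizer_iff.2 fun l hl => ext_smul fun u => ?_
    have e1 : ∀ x ∈ K1, ∀ y ∈ K1, x • y • u = x • u + y • u - u := fun x hx y hy => by
      have := hU0K _ (hall y hy u) x hx
      rw [smul_sub, sub_eq_iff_eq_add] at this
      rw [this]; abel
    rw [mul_smul, mul_smul, e1 l hl k hk, e1 k hk l hl, add_comm (l • u)]
  have hnt2 : ∃ k : stab U0, (k : Γ U) ∈ K1 ∧ quo U0 k ≠ 1 := by
    by_contra hall
    push Not at hall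
    refine hnotall fun k hk u => ?_
    have := quo_smul U0 ⟨k, hKS2 hk⟩ u
    rw [hall ⟨k, hKS2 hk⟩ hk, one_smul] at this
    exact QuotientAddGroup.eq_iff_sub_mem.1 this.symm
  set A2 := img (quo U0) A1 with hA2
  set K2 := img (quo U0) K1 with hK2
  have h2 : Setup 2 A2 K2 := h1.map (stab U0) (quo U0) hAS2 hKS2 hnt2
  have hrel2 : Rel A2 K2 := hrel1.quo U0
  have hp2 : ∀ w : U ⧸ U0, 2 • w = 0 := by
    intro w
    induction w using QuotientAddGroup.induction_on with
    | H u => rw [← QuotientAddGroup.mk_nsmul, hp1, QuotientAddGroup.mk_zero]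
  have ha1 : res U ⟨a, hAS ha⟩ ∈ A1 := mem_img (res U) (x := ⟨a, hAS ha⟩) ha
  have hmove2 : cj (quo U0 ⟨_, hAS2 ha1⟩) K2 ≠ K2 := fun q => hmove1
    (h1.normalizes_of_map (stab U0) (quo U0) hAS2 hKS2 hnt2 (a := ⟨_, hAS2 ha1⟩) ha1 ((h2.cj_eq_iff).1 q))
  -- irreducibility
  have hirr : Irr A2 K2 := by
    intro V hV
    let V1 := V.comap (QuotientAddGroup.mk' U0)
    have hV1 : Inv A1 K1 V1 := ⟨fun k hk u hu => by
        have := hV.1 _ (mem_img (quo U0) (x := ⟨k, hKS2 hk⟩) hk) _ hu
        rwa [QuotientAddGroup.mk'_apply, quo_smul] at this,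
      fun c hc u hu => by
        have := hV.2 _ (mem_img (quo U0) (x := ⟨c, hAS2 hc⟩) hc) _ hu
        rwa [QuotientAddGroup.mk'_apply, quo_smul] at this⟩
    rcases hmin1 V1 hV1 with q | q
    · right
      rw [eq_top_iff]
      intro w _
      induction w using QuotientAddGroup.induction_on with
      | H u => exact (show u ∈ V1 by rw [q]; exact AddSubgroup.mem_top u)
    · left
      rw [eq_bot_iff]
      intro w hw
      induction w using QuotientAddGroup.induction_on with
      | H u => exact AddSubgroup.mem_bot.2 ((QuotientAddGroup.eq_zero_iff u).2 (hV1.le_fix_Lsup q hw))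
  have hnK2 : ¬ (⊤ : AddSubgroup (U ⧸ U0)) ≤ fix K2 := fun q => h2.ne
    ((Subgroup.eq_bot_iff_forall _).2 fun k hk =>
      ext_smul fun w => by rw [q (AddSubgroup.mem_top w) k hk, one_smul])
  have hfix2 : fix (Lsup A2 K2) = ⊥ := (hirr _ inv_fix_Lsup).resolve_right fun q =>
    hnK2 (q ▸ fix_Lsup_le_fix)
  have hnontriv : Nontrivial (U ⧸ U0) := by
    by_contra q
    rw [not_nontrivial_iff_subsingleton] at q
    exact h2.ne ((Subgroup.eq_bot_iff_forall _).2 fun k _ => ext_smul fun w => Subsingleton.elim _ _)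
  -- the kernel of the quotient action on `A1` is trivial
  have hfaith : ∀ c : stab U0, (c : Γ U) ∈ A1 → quo U0 c = 1 → (c : Γ U) = 1 := by
    intro c hc hc1
    have hcK : cj (c : Γ U) K1 = K1 := h1.normalizes_of_map (stab U0) (quo U0) hAS2 hKS2 hnt2 hc
      (by rw [hc1]; exact one_mem _)
    have hmod : ∀ u : U, (c : Γ U) • u - u ∈ U0 := fun u => by
      have := quo_smul U0 c u
      rw [hc1, one_smul] at this
      exact QuotientAddGroup.eq_iff_sub_mem.1 this.symm
    let N : Subgroup (Γ U) := ((quo U0).ker).map (stab U0).subtype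
    have hcomm : ∀ k ∈ K1, (c : Γ U) * k = k * c := by
      refine h1.centralizes_of_central fun k hk => ?_
      have hk' : (c : Γ U) * k * (c : Γ U)⁻¹ ∈ K1 := hcK.le (conj_mem_cj hk)
      refine ⟨K1.mul_mem (K1.inv_mem hk) hk', ?_⟩
      have hker : k⁻¹ * ((c : Γ U) * k * (c : Γ U)⁻¹) ∈ N := by
        refine ⟨(⟨k, hKS2 hk⟩ : stab U0)⁻¹ * (c * ⟨k, hKS2 hk⟩ * c⁻¹), ?_, rfl⟩
        rw [SetLike.mem_coe, MonoidHom.mem_ker]
        simp only [map_mul, map_inv, hc1, one_mul, inv_one, mul_one, inv_mul_cancel]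
      by_contra hnc
      have hle := h1.normals_eq (N := N) (fun x hx n hn _ => ?_) (K1.mul_mem (K1.inv_mem hk) hk') hker hnc
      · obtain ⟨x, hx, hx1⟩ := hnt2
        obtain ⟨x', hx', ex⟩ := hle hx
        exact hx1 ((stab U0).subtype_injective ex ▸ MonoidHom.mem_ker.1 hx')
      · obtain ⟨n', hn', rfl⟩ := hn
        refine ⟨⟨x, hKS2 hx⟩ * n' * (⟨x, hKS2 hx⟩)⁻¹, ?_, rfl⟩
        rw [SetLike.mem_coe, MonoidHom.mem_ker, map_mul, map_mul, map_inv, MonoidHom.mem_ker.1 hn',
          mul_one, mul_inv_cancel]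
    let V : AddSubgroup U :=
      { carrier := {u | (c : Γ U) • u = u}
        add_mem' := fun {u v} hu hv => by
          show (c : Γ U) • (u + v) = u + v
          rw [smul_add, hu, hv]
        zero_mem' := smul_zero _
        neg_mem' := fun {u} hu => by
          show (c : Γ U) • (-u) = -u
          rw [smul_neg, hu] }
    have hV : Inv A1 K1 V := ⟨fun k hk u hu => by
        show (c : Γ U) • k • u = k • u
        rw [smul_smul, hcomm k hk, mul_smul, hu],
      fun d hd u hu => by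
        show (c : Γ U) • d • u = d • u
        rw [smul_smul, (commute_of_mem h1.el hc hd).eq, mul_smul, hu]⟩
    rcases hmin1 V hV with q | q
    · exact ext_smul fun u => by
        rw [one_smul]; exact (show u ∈ V by rw [q]; exact AddSubgroup.mem_top u)
    · exfalso
      refine hnotall fun k hk u => hV.le_fix_Lsup q ?_
      show (c : Γ U) • (k • u - u) = k • u - u
      have e := hU0K _ (hmod u) k hk
      rw [smul_sub, smul_smul, ← hcomm k hk, mul_smul] at e
      rw [smul_sub, sub_eq_sub_iff_sub_eq_sub]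
      exact e
  -- the offender inequality
  have hoff2 : Nat.card (U ⧸ U0) ≤ Nat.card A2 * Nat.card (fix A2) := by
    have hcA : Nat.card A1 = Nat.card A2 := by
      have := card_img (quo U0) hAS2
      have hk1 : (quo U0).ker ⊓ A1.subgroupOf (stab U0) = ⊥ :=
        (Subgroup.eq_bot_iff_forall _).2 fun c hc => Subtype.ext (hfaith c hc.2 (MonoidHom.mem_ker.1 hc.1))
      rw [hk1, Subgroup.card_bot, mul_one] at this
      exact this
    let π : fix A1 →+ fix A2 :=
      { toFun := fun u => ⟨((u : U) : U ⧸ U0), by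
          rintro _ ⟨c, hc, rfl⟩
          rw [quo_smul]
          exact congrArg _ (u.2 _ hc)⟩
        map_zero' := rfl
        map_add' := fun u v => rfl }
    have hπ : Nat.card (fix A1) ≤ Nat.card (fix A2) * Nat.card U0 := by
      have e := AddSubgroup.card_mul_index π.ker
      rw [AddSubgroup.index_ker] at e
      rw [← e, mul_comm]
      refine Nat.mul_le_mul (AddSubgroup.card_le_card_addGroup _) ?_
      refine Nat.card_le_card_of_injective
        (fun u => (⟨u.1.1, (QuotientAddGroup.eq_zero_iff _).1 (congrArg Subtype.val u.2)⟩ : U0)) ?_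
      intro u v e
      exact Subtype.ext (Subtype.ext (congrArg (fun t : U0 => t.1) e))
    refine Nat.le_of_mul_le_mul_right ?_ (Nat.card_pos (α := U0))
    rw [← AddSubgroup.card_eq_card_quotient_mul_card_addSubgroup, ← hcA, mul_assoc]
    exact hoff1.trans (Nat.mul_le_mul_left _ hπ)
  exact false_of_irreducible hp2 h2 hrel2 hfix2 hirr
    (mem_img (quo U0) (x := ⟨_, hAS2 ha1⟩) ha1) hmove2 hoff2 hnontriv

/-- A best offender normalises `K`. -/
theorem normalizes [hpp : Fact p.Prime] : ∀ (n : ℕ) {W : Type v} [AddCommGroup W] [Finite W],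
    (∀ w : W, p • w = 0) → ∀ {A K : Subgroup (Γ W)}, Nat.card A = n → Setup p A K → Best A →
    ∀ a ∈ A, cj a K = K := by
  intro n
  induction n using Nat.strong_induction_on with
  | _ n ih =>
    intro W _ _ hp A K hn h hbest a ha
    by_contra hne
    have hA1 : A ≠ ⊥ := fun q => hne (by
      rw [q, Subgroup.mem_bot] at ha
      rw [ha, cj_one])
    obtain ⟨hmax, -, hq1⟩ := quad_spec hp h.el hbest hA1
    set B0 := quad A with hB0
    by_cases hg : ∃ g ∈ B0, cj g K = K ∧ ¬ ∀ k ∈ K, g * k = k * g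
    · obtain ⟨g, hg0, hgK, hgc⟩ := hg
      have hgA : g ∈ A := quad_le A hg0
      have hgf : ∀ {c : Γ W}, c ∈ A → g ∈ fixer (com c) := fun hc w hw => quad_fixes hg0 hc hw
      by_cases hp2 : p = 2
      · subst hp2
        exact false_of_rel hp h hbest
          (fun c hc hcK => h.rel_of_fixer hc hcK hgA hgK hgc (hgf hc)) ha hne
      · exact false_of_odd hp hp2 h ha hne (Or.inr ⟨g, hgA, hgK, hgc, hgf ha⟩)
    push Not at hg
    by_cases hBA : B0 = A
    · have hf : ∀ {c d : Γ W}, c ∈ A → d ∈ A → c ∈ fixer (com d) := fun hc hd w hw =>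
        quad_fixes (show _ ∈ quad A by rw [← hB0, hBA]; exact hc) hd hw
      by_cases hp2 : p = 2
      · subst hp2
        refine false_of_rel hp h hbest (fun c hc hcK => ?_) ha hne
        by_cases hthird : ∃ g ∈ A, cj g K ≠ K ∧ cj g K ≠ cj c K
        · obtain ⟨g, hgA, hgK, hgc⟩ := hthird
          exact h.rel_of_third hc hcK hgA hgK hgc (hf hgA hc)
        · push Not at hthird
          exact (false_of_transvection hp h hbest hc hcK
            (fun b hb hbK => hg b (hBA.symm ▸ hb) hbK)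
            fun d hd => or_iff_not_imp_left.2 (hthird d hd)).elim
      · refine false_of_odd hp hp2 h ha hne (Or.inl (AddMonoidHom.ext fun w => ?_))
        show a • (a • w - w) - (a • w - w) = 0
        rw [hf ha ha _ (com_mem a w), sub_self]
    -- all of `B0` centralises `K`
    have hlt : Nat.card B0 < n := by
      rw [← hn]
      refine lt_of_le_of_ne (Subgroup.card_le_of_le (quad_le A)) fun q => hBA ?_
      exact Subgroup.eq_of_le_of_card_ge (quad_le A) q.ge
    have h0 : Setup p B0 K :=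
      ⟨el_mono h.el (quad_le A), h.perfect, h.ne, h.normals, fun b hb => h.comm b (quad_le A hb)⟩
    have hbest0 : Best B0 := fun B hB => by
      rw [hmax]; exact hbest B (hB.trans (quad_le A))
    have hcen : ∀ b ∈ B0, ∀ k ∈ K, b * k = k * b := fun b hb =>
      hg b hb (ih _ hlt hp rfl h0 hbest0 b hb)
    set U := fix B0 with hU
    have hAS : A ≤ stab U := fun c hc => mem_stab fun u hu b hb => by
      rw [smul_smul, (commute_of_mem h.el (quad_le A hb) hc).eq, mul_smul, hu b hb]
    have hKS : K ≤ stab U := fun k hk => mem_stab fun u hu b hb => by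
      rw [smul_smul, hcen b hb k hk, mul_smul, hu b hb]
    have hnt : ∃ k : stab U, (k : Γ W) ∈ K ∧ res U k ≠ 1 := by
      by_contra hall
      push Not at hall
      obtain ⟨x, hx, hxc, hxp, -⟩ := h.exists_noncentral hpp.out hpp.out
      refine hxc ?_
      have hx1 : x = 1 := eq_one_of_fix hp h0.el hxp (fun b hb => hcen b hb x hx) fun u hu => by
        have := congrArg Subtype.val (show res U ⟨x, hKS hx⟩ • (⟨u, hu⟩ : U) = ⟨u, hu⟩ by
          rw [hall ⟨x, hKS hx⟩ hx, one_smul])
        rw [res_smul] at this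
        exact this
      rw [hx1]; exact one_mem _
    set A1 := img (res U) A with hA1'
    have h1 : Setup p A1 (img (res U) K) := h.map (stab U) (res U) hAS hKS hnt
    have hp1 : ∀ u : U, p • u = 0 := fun u => Subtype.ext (hp u.1)
    have hkerfix : ∀ b ∈ B0, ∀ hb : b ∈ stab U, res U ⟨b, hb⟩ = 1 := fun b hb hb' =>
      ext_smul fun u => Subtype.ext (by rw [res_smul, one_smul]; exact u.2 b hb)
    have hcA := card_img (res U) hAS
    have hlt1 : Nat.card A1 < n := by
      rw [← hn, hcA]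
      refine lt_mul_of_one_lt_right Nat.card_pos ?_
      obtain ⟨b, hb, hb1⟩ := (Subgroup.ne_bot_iff_exists_ne_one).1 hq1 |> fun ⟨b, hb⟩ =>
        (⟨b.1, b.2, fun q => hb (Subtype.ext q)⟩ : ∃ b ∈ B0, b ≠ 1)
      rw [Finite.one_lt_card_iff_nontrivial, Subgroup.nontrivial_iff_ne_bot,
        Subgroup.ne_bot_iff_exists_ne_one]
      exact ⟨⟨⟨b, hAS (quad_le A hb)⟩, MonoidHom.mem_ker.2 (hkerfix b hb _), quad_le A hb⟩,
        fun q => hb1 (congrArg (fun t => t.1.1) q)⟩
    have hbest1 : Best A1 := by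
      intro B' hB'
      let B : Subgroup (Γ W) := (B'.comap (res U)).map (stab U).subtype ⊓ A
      have hB0B : B0 ≤ B := fun b hb =>
        ⟨⟨⟨b, hAS (quad_le A hb)⟩, by
          rw [SetLike.mem_coe, Subgroup.mem_comap, hkerfix b hb _]; exact one_mem _, rfl⟩, quad_le A hb⟩
      have himg : img (res U) B = B' := by
        refine le_antisymm ?_ fun x hx => ?_
        · rintro _ ⟨b, hb, rfl⟩
          obtain ⟨⟨b', hb', e⟩, -⟩ := hb
          rwa [← (stab U).subtype_injective e]
        · obtain ⟨c, hc, rfl⟩ := hB' hx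
          exact ⟨c, ⟨⟨c, hx, rfl⟩, hc⟩, rfl⟩
      have hfixU : ∀ {C : Subgroup (Γ W)}, B0 ≤ C → C ≤ A →
          Nat.card (fix (img (res U) C)) = Nat.card (fix C) := by
        intro C h0C hCA
        refine Nat.card_congr
          { toFun := fun u => ⟨u.1.1, fun c hc => by
              have := congrArg Subtype.val (u.2 _ (mem_img (res U) (x := ⟨c, hAS (hCA hc)⟩) hc))
              rwa [res_smul] at this⟩
            invFun := fun w => ⟨⟨w.1, fix_mono h0C w.2⟩, by
              rintro _ ⟨c, hc, rfl⟩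
              exact Subtype.ext (by rw [res_smul]; exact w.2 _ hc)⟩
            left_inv := fun u => rfl
            right_inv := fun w => rfl }
      have hker : ∀ {C : Subgroup (Γ W)}, C ≤ A → B = C ∨ A = C →
          (res U).ker ⊓ C.subgroupOf (stab U) = (res U).ker ⊓ A.subgroupOf (stab U) := by
        intro C hC hC'
        refine le_antisymm (inf_le_inf_left _ fun c hc => hC hc) fun c hc => ⟨hc.1, ?_⟩
        rcases hC' with rfl | rfl
        · exact ⟨⟨c, by rw [SetLike.mem_coe, Subgroup.mem_comap, MonoidHom.mem_ker.1 hc.1]; exact one_mem _, rfl⟩, hc.2⟩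
        · exact hc.2
      have hBle : B ≤ A := inf_le_right
      have e1 := card_img (res U) (hBle.trans hAS)
      rw [himg, hker hBle (Or.inl rfl)] at e1
      have hb := hbest B hBle
      rw [e1, hcA, ← hfixU hB0B hBle, ← hfixU (quad_le A) le_rfl, himg] at hb
      refine Nat.le_of_mul_le_mul_left ?_
        (Nat.card_pos (α := ↥((res U).ker ⊓ A.subgroupOf (stab U))))
      calc _ = Nat.card B' * Nat.card ↥((res U).ker ⊓ A.subgroupOf (stab U)) * Nat.card (fix B') := by ring
        _ ≤ _ := hb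
        _ = _ := by ring
    have := ih _ hlt1 hp1 rfl h1 hbest1 _ (mem_img (res U) (x := ⟨a, hAS ha⟩) ha)
    exact hne (h.normalizes_of_map (stab U) (res U) hAS hKS hnt (a := ⟨a, hAS ha⟩) ha
      ((h1.cj_eq_iff).1 this))

end CfsgLib.LocalEven.PGV
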